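import Mathlib
import Cfsg.Agent.Lib.Helper11.Rank3E

/-!
# S1615 (Fischer: `O(⟨D_x⟩)` not central ⇒ `S₅`): common definitions (helper61)

`Dn D a` is the set `D_a` of members of `D` other than `a` commuting with `a`.  `Tw D a b c`
says that `b, c` are non-commuting neighbours of `a` having the same neighbours among the
neighbours of `a`.  `Coc D` says that the commuting graph on `D` has no triangle, `Mu1 D` that two
non-commuting members have at most one common neighbour, `Qa D a` is the subgroup generated by the
products of two neighbours of `a`.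
-/

set_option autoImplicit false

namespace Cfsg.Agent.Lib.Helper61.F15

variable {G : Type*} [Group G]

/-- the neighbours of `a`: the members of `D` other than `a` commuting with `a` -/
def Dn (D : Set G) (a : G) : Set G := {y | y ∈ D ∧ y ≠ a ∧ Commute a y}

/-- `b, c` are non-commuting neighbours of `a` with the same neighbours among the neighbours
of `a` -/
def Tw (D : Set G) (a b c : G) : Prop :=
  a ∈ D ∧ b ∈ D ∧ c ∈ D ∧ Commute a b ∧ Commute a c ∧ ¬ Commute b c ∧
    ∀ f ∈ D, Commute a f → f ≠ b → f ≠ c → (Commute f b ↔ Commute f c)

/-- no three distinct pairwise commuting members -/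
def Coc (D : Set G) : Prop := ∀ a ∈ D, ∀ b ∈ D, ∀ g ∈ D, a ≠ b → g ≠ a → g ≠ b →
  Commute a b → Commute g a → Commute g b → False

/-- two non-commuting members have at most one common neighbour -/
def Mu1 (D : Set G) : Prop := ∀ p ∈ D, ∀ q ∈ D, ¬ Commute p q → ∀ u ∈ D, ∀ u' ∈ D,
  Commute u p → Commute u q → Commute u' p → Commute u' q → u = u'

/-- the subgroup generated by the products of two neighbours of `a` -/
def Qa (D : Set G) (a : G) : Subgroup G :=
  Subgroup.closure {t | ∃ p q, p ∈ Dn D a ∧ q ∈ Dn D a ∧ t = p * q}

end Cfsg.Agent.Lib.Helper61.F15
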