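import Mathlib
import Cfsg.Agent.Lib.Helper48.RCBase

/-!
# Project RC (helper48, S1152 + S1157), piece RC-KERNE (helper61)

A homomorphism `φ : SL₂(F) → C_G(J)` (`J = H (-1)`) between groups of the same order is not
injective: otherwise it is onto, `J` and `w` are images of involutions of `SL₂`, which has only
one involution, so `J = w ∈ B`, which is impossible.
-/

set_option autoImplicit false

namespace Cfsg.Agent.Lib.Helper48.RC

section ok0

variable {F : Type*} [Field F] [Finite F] [CharP F 3] {G : Type*} [Group G] [Finite G]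
variable {θ : F →+* F} {T : F → F → F → G} {H : Fˣ → G} {w : G}

-- piece RC-KERNE
theorem not_injective (h : Ok0 θ T H w) (φ : Matrix.SpecialLinearGroup (Fin 2) F →* G)
    (hrange : ∀ g, φ g ∈ Subgroup.centralizer {H (-1)})
    (hcard : Nat.card (Subgroup.centralizer {H (-1)}) =
      Nat.card F * (Nat.card F - 1) * (Nat.card F + 1))
    (hSL : Nat.card (Matrix.SpecialLinearGroup (Fin 2) F) =
      Nat.card F * (Nat.card F - 1) * (Nat.card F + 1))
    (hinv : ∀ g g' : Matrix.SpecialLinearGroup (Fin 2) F, g * g = 1 → g' * g' = 1 → g ≠ 1 →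
      g' ≠ 1 → g = g') :
    ¬ Function.Injective φ := by
  intro hφ
  have hJJ : H (-1) * H (-1) = 1 := by
    rw [← h.H_mul, neg_mul_neg, one_mul, h.H_one]
  have hm1 : ((-1 : Fˣ))⁻¹ = -1 := inv_eq_of_mul_eq_one_right (by rw [neg_mul_neg, one_mul])
  have hJne : H (-1) ≠ 1 := by
    intro e
    have e1 := h.H_inj _ e
    have e2 : (-1 : F) = 1 := by
      have := congrArg Units.val e1
      simpa using this
    have h3 : (3 : F) = 0 := three_eq_zero
    have h10 : (1 : F) = 0 := by linear_combination h3 + e2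
    exact one_ne_zero h10
  have hwJ : w * H (-1) * w = H (-1) := by
    have := h.wH (-1)
    rw [hm1] at this
    exact this
  have hwB : w ∉ h.Bs := by
    intro hw
    have h1 : w * T 1 0 0 * w ∈ h.Bs :=
      h.Bs.mul_mem (h.Bs.mul_mem hw (h.Qs_le_Bs (h.T_mem 1 0 0))) hw
    exact h.T100_ne_one (h.eq_one_of_wuw (h.T_mem 1 0 0) h1)
  -- the corestriction
  obtain ⟨ψ, hψ⟩ : ∃ ψ : Matrix.SpecialLinearGroup (Fin 2) F →
      ↥(Subgroup.centralizer {H (-1)}), ∀ g, (ψ g : G) = φ g :=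
    ⟨fun g => ⟨φ g, hrange g⟩, fun _ => rfl⟩
  have hψinj : Function.Injective ψ := by
    intro a b hab
    apply hφ
    rw [← hψ, ← hψ, hab]
  have hbij : Function.Bijective ψ :=
    Function.Injective.bijective_of_nat_card_le hψinj (by rw [hcard, hSL])
  have hJmem : H (-1) ∈ Subgroup.centralizer {H (-1)} := by
    rw [Subgroup.mem_centralizer_iff]
    intro x hx
    rw [Set.mem_singleton_iff.mp hx]
  have hwmem : w ∈ Subgroup.centralizer {H (-1)} := by
    rw [Subgroup.mem_centralizer_iff]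
    intro x hx
    rw [Set.mem_singleton_iff.mp hx]
    calc H (-1) * w = (w * H (-1) * w) * w := by rw [hwJ]
      _ = w * H (-1) * (w * w) := by group
      _ = w * H (-1) := by rw [h.w_sq, mul_one]
  obtain ⟨g₁, hg₁⟩ := hbij.2 ⟨H (-1), hJmem⟩
  obtain ⟨g₂, hg₂⟩ := hbij.2 ⟨w, hwmem⟩
  have e₁ : φ g₁ = H (-1) := by rw [← hψ, hg₁]
  have e₂ : φ g₂ = w := by rw [← hψ, hg₂]
  have s₁ : g₁ * g₁ = 1 := by
    apply hφ
    rw [map_mul, map_one, e₁, hJJ]
  have s₂ : g₂ * g₂ = 1 := by
    apply hφ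
    rw [map_mul, map_one, e₂, h.w_sq]
  have n₁ : g₁ ≠ 1 := by
    rintro rfl
    rw [map_one] at e₁
    exact hJne e₁.symm
  have n₂ : g₂ ≠ 1 := by
    rintro rfl
    rw [map_one] at e₂
    exact hwB (Eq.subst (motive := fun y => y ∈ h.Bs) e₂ h.Bs.one_mem)
  have h12 := hinv g₁ g₂ s₁ s₂ n₁ n₂
  have e₃ : H (-1) = w := by rw [← e₁, h12, e₂]
  exact hwB (Eq.subst (motive := fun y => y ∈ h.Bs) e₃ (h.H_mem (-1)))

end ok0

end Cfsg.Agent.Lib.Helper48.RC
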