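import Mathlib
import Cfsg.Agent.Lib.Helper10.BWDefs
import Cfsg.Agent.Lib.Helper4.CharDecomp
import Cfsg.Agent.Lib.Helper4.BrSpan
import Cfsg.Agent.Lib.Helper4.CharDual
import Cfsg.Agent.Lib.Helper73.BRI1
import Cfsg.Agent.Lib.Helper83.IrrBasic

/-!
# S0997 case B2 (project BW, helper10), piece UNIQ

If `Σ_{n ∈ H} |θ(n)|² = 2|H|` then a nontrivial irreducible `χ₂` with an `H`-fixed vector has
multiplicity at most one in `θ · conj θ`, and if it is one then it is the only such constituent.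
-/

set_option autoImplicit false
set_option linter.style.haveILetI false

namespace Cfsg.Agent.Lib.Helper10.BW

open Cfsg
open Cfsg.Agent.Lib.Helper83 (trivIrr)
open Cfsg.Agent.Lib.Helper10.BR (psum DOut)
open scoped ComplexConjugate

universe u

variable {G : Type u} [Group G] [Fintype G]

/-- `psum` of a finite combination of functions -/
theorem uniq_psum_sum [Fintype (IrrCharacter G)] (H : Subgroup G) (m : IrrCharacter G → ℂ) :
    psum H (∑ χ : IrrCharacter G, m χ • (χ : G → ℂ)) 1 =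
      ∑ χ : IrrCharacter G, m χ * psum H (χ : G → ℂ) 1 := by
  classical
  letI : Fintype H := Fintype.ofFinite H
  rw [BR.psum_eq_sum]
  simp only [BR.psum_eq_sum, Finset.sum_apply, Pi.smul_apply, smul_eq_mul, Finset.mul_sum]
  rw [Finset.sum_comm]

/-- BW-UNIQ -/
theorem uniq (H : Subgroup G) (θ : IrrCharacter G)
    (hs : psum H (pc (θ : G → ℂ) (θ : G → ℂ)) 1 = 2 * (Nat.card H : ℂ))
    (χ₂ : IrrCharacter G) (hne : χ₂ ≠ trivIrr G) (h2 : psum H (χ₂ : G → ℂ) 1 ≠ 0) :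
    (classInner (pc (θ : G → ℂ) (θ : G → ℂ)) (χ₂ : G → ℂ) = 0 ∨
      classInner (pc (θ : G → ℂ) (θ : G → ℂ)) (χ₂ : G → ℂ) = 1) ∧
    (classInner (pc (θ : G → ℂ) (θ : G → ℂ)) (χ₂ : G → ℂ) = 1 →
      ∀ χ : IrrCharacter G, χ ≠ trivIrr G → χ ≠ χ₂ →
        classInner (pc (θ : G → ℂ) (θ : G → ℂ)) (χ : G → ℂ) ≠ 0 →
        psum H (χ : G → ℂ) 1 = 0) := by
  classical
  haveI : Finite (IrrCharacter G) := Cfsg.Agent.Lib.Helper82.finite_irrCharacter G
  letI : Fintype (IrrCharacter G) := Fintype.ofFinite _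
  letI : Fintype H := Fintype.ofFinite H
  have hθ : IsCharacter G (θ : G → ℂ) := by
    obtain ⟨n, ρ, -, h⟩ := θ.2
    exact ⟨n, ρ, h⟩
  have hφ : IsCharacter G (pc (θ : G → ℂ) (θ : G → ℂ)) :=
    Cfsg.Agent.Lib.Helper4.isCharacter_mul _ _ hθ
      (Cfsg.Agent.Lib.Helper4.isCharacter_conj _ hθ)
  obtain ⟨m, hm⟩ := Cfsg.Agent.Lib.Helper4.exists_decomp_of_isCharacter _ hφ
  have hinner : ∀ χ : IrrCharacter G,
      classInner (pc (θ : G → ℂ) (θ : G → ℂ)) (χ : G → ℂ) = (m χ : ℂ) := by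
    intro χ
    rw [hm]
    exact Cfsg.Agent.Lib.Helper4.classInner_sum_irr (fun χ => (m χ : ℂ)) χ
  choose n hn using fun χ : IrrCharacter G => BR.BRI1aux.psum_nat H χ
  have hH0 : (Nat.card H : ℂ) ≠ 0 := by
    exact_mod_cast (Nat.card_pos (α := H)).ne'
  -- the total count
  have htot : ∑ χ : IrrCharacter G, m χ * n χ = 2 := by
    have h1 : psum H (pc (θ : G → ℂ) (θ : G → ℂ)) 1 =
        ∑ χ : IrrCharacter G, (m χ : ℂ) * psum H (χ : G → ℂ) 1 := by
      rw [hm]
      exact uniq_psum_sum H (fun χ => (m χ : ℂ))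
    rw [hs] at h1
    have h3 : (Nat.card H : ℂ) * (2 : ℂ) =
        (Nat.card H : ℂ) * ((∑ χ : IrrCharacter G, m χ * n χ : ℕ) : ℂ) := by
      rw [mul_comm, h1]
      push_cast
      rw [Finset.mul_sum]
      refine Finset.sum_congr rfl fun χ _ => ?_
      rw [hn χ]
      ring
    have h4 := mul_left_cancel₀ hH0 h3
    exact_mod_cast h4.symm
  -- the trivial character
  have hmtriv : m (trivIrr G) = 1 := by
    have h1 := hinner (trivIrr G)
    have h3 : classInner (pc (θ : G → ℂ) (θ : G → ℂ)) ((trivIrr G : IrrCharacter G) : G → ℂ) =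
        classInner (θ : G → ℂ) (θ : G → ℂ) := by
      unfold classInner pc
      congr 1
      refine Finset.sum_congr rfl fun g _ => ?_
      rw [Cfsg.Agent.Lib.Helper83.trivIrr_apply, map_one, mul_one]
    rw [h3, Cfsg.Agent.Lib.Helper83.irr_orthonormal, if_pos rfl] at h1
    exact_mod_cast h1.symm
  have hntriv : n (trivIrr G) = 1 := by
    have h1 := hn (trivIrr G)
    rw [BR.psum_eq_sum] at h1
    simp only [Cfsg.Agent.Lib.Helper83.trivIrr_apply, Finset.sum_const, Finset.card_univ,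
      nsmul_eq_mul, mul_one] at h1
    rw [← Nat.card_eq_fintype_card] at h1
    have h3 : (Nat.card H : ℂ) * 1 = (Nat.card H : ℂ) * (n (trivIrr G) : ℂ) := by
      rw [mul_one]; exact h1
    have h4 := mul_left_cancel₀ hH0 h3
    exact_mod_cast h4.symm
  have hn2 : 1 ≤ n χ₂ := by
    rcases Nat.eq_zero_or_pos (n χ₂) with h0 | h0
    · exfalso
      apply h2
      rw [hn χ₂, h0]
      simp
    · exact h0
  -- split the sum
  have hsplit : ∑ χ : IrrCharacter G, m χ * n χ =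
      m (trivIrr G) * n (trivIrr G) + (m χ₂ * n χ₂ +
        ∑ χ ∈ (Finset.univ.erase (trivIrr G)).erase χ₂, m χ * n χ) := by
    rw [← Finset.add_sum_erase Finset.univ _ (Finset.mem_univ (trivIrr G)),
      ← Finset.add_sum_erase (Finset.univ.erase (trivIrr G)) _
        (Finset.mem_erase.mpr ⟨hne, Finset.mem_univ χ₂⟩)]
  rw [htot, hmtriv, hntriv] at hsplit
  obtain ⟨R, hR⟩ : ∃ R : ℕ, R = ∑ χ ∈ (Finset.univ.erase (trivIrr G)).erase χ₂, m χ * n χ :=
    ⟨_, rfl⟩
  rw [← hR] at hsplit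
  have hle : m χ₂ ≤ m χ₂ * n χ₂ := Nat.le_mul_of_pos_right _ hn2
  have hm2 : m χ₂ = 0 ∨ m χ₂ = 1 := by omega
  refine ⟨?_, ?_⟩
  · rw [hinner χ₂]
    rcases hm2 with h | h
    · left; rw [h]; simp
    · right; rw [h]; simp
  · intro h1 χ hχ hχ2 hχ0
    rw [hinner χ₂] at h1
    have hm1 : m χ₂ = 1 := by exact_mod_cast h1
    rw [hm1, one_mul] at hsplit
    have hR0 : R = 0 := by omega
    rw [hR] at hR0
    have hzero := (Finset.sum_eq_zero_iff.mp hR0) χ
      (Finset.mem_erase.mpr ⟨hχ2, Finset.mem_erase.mpr ⟨hχ, Finset.mem_univ χ⟩⟩)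
    rw [hinner χ] at hχ0
    have hmχ : m χ ≠ 0 := by
      intro h0
      apply hχ0
      rw [h0]; simp
    have hnχ : n χ = 0 := by
      rcases Nat.mul_eq_zero.mp hzero with h | h
      · exact absurd h hmχ
      · exact h
    rw [hn χ, hnχ]
    simp

end Cfsg.Agent.Lib.Helper10.BW
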