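import Mathlib
import Cfsg.Agent.Lib.Helper20.D8Grp
import Cfsg.Agent.Lib.Helper5.V4Order
import Cfsg.Agent.S0111
import Cfsg.Agent.Lib.Helper23.Ord24
import Cfsg.Agent.Lib.Helper61.Basic
import Cfsg.Agent.Lib.Helper61.PGroup
import Cfsg.Agent.Lib.Helper61.Conj

/-! Case (ii) of the `D8`-centralizer theorem (S3035): an involution `z` with `C(z) ≅ D8`,
conjugate to the noncentral involution `sr 0` of `C(z)` but not to `sr 1`, forces
`G ≅ S4` or `G ≅ S5` (helper61). -/

set_option autoImplicit false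

namespace Cfsg.Agent.Lib.Helper61.D8CaseII

open DihedralGroup Cfsg.Agent.Lib.Helper20

universe u

/-! ### facts about `D8` -/

theorem d8_cases : ∀ q : DihedralGroup 4, q = r 0 ∨ q = r 1 ∨ q = r 2 ∨ q = r 3 ∨
    q = sr 0 ∨ q = sr 1 ∨ q = sr 2 ∨ q = sr 3 := by decide

theorem w1_cases : ∀ q : DihedralGroup 4, sr 0 * q = q * sr 0 →
    q = 1 ∨ q = r 2 ∨ q = sr 0 ∨ q = sr 2 := by decide

theorem w1_sq : ∀ q : DihedralGroup 4, sr 0 * q = q * sr 0 → q * q = 1 := by decide

theorem invol_cases : ∀ q : DihedralGroup 4, q * q = 1 → q ≠ 1 →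
    q = r 2 ∨ q = sr 0 ∨ q = sr 1 ∨ q = sr 2 ∨ q = sr 3 := by decide

/-! ### coordinates on `C(z)` -/

section el

variable {G : Type u} [Group G] {z : G}
  (e : Subgroup.centralizer ({z} : Set G) ≃* DihedralGroup 4)

/-- the element of `C(z)` with coordinate `q` -/
def el (q : DihedralGroup 4) : G := ((e.symm q : Subgroup.centralizer ({z} : Set G)) : G)

theorem el_mem (q : DihedralGroup 4) : el e q ∈ Subgroup.centralizer ({z} : Set G) :=
  (e.symm q).2

theorem el_mul (p q : DihedralGroup 4) : el e (p * q) = el e p * el e q := by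
  unfold el; rw [map_mul]; rfl

theorem el_one : el e 1 = 1 := by
  unfold el; rw [map_one]; rfl

theorem el_inv (q : DihedralGroup 4) : el e q⁻¹ = (el e q)⁻¹ := by
  unfold el; rw [map_inv]; rfl

theorem el_inj {p q : DihedralGroup 4} (h : el e p = el e q) : p = q :=
  e.symm.injective (Subtype.ext h)

theorem exists_el {x : G} (hx : x ∈ Subgroup.centralizer ({z} : Set G)) :
    ∃ q : DihedralGroup 4, x = el e q :=
  ⟨e ⟨x, hx⟩, by unfold el; rw [MulEquiv.symm_apply_apply]⟩

theorem el_r2 (hz : orderOf z = 2) : el e (r 2) = z := by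
  unfold el; rw [d8_symm_r2 z hz e]

theorem el_comm_z (q : DihedralGroup 4) : z * el e q = el e q * z :=
  (d8_mem_iff z _).mp (el_mem e q)

/-- the four-group `{1, z, b, zb}` of `C(z)`, `b = el (sr 0)` -/
def V1 : Subgroup G :=
  Subgroup.centralizer ({z} : Set G) ⊓ Subgroup.centralizer ({el e (sr 0)} : Set G)

theorem mem_V1 (x : G) :
    x ∈ V1 e ↔ ∃ q : DihedralGroup 4, x = el e q ∧ sr 0 * q = q * sr 0 := by
  unfold V1
  rw [Subgroup.mem_inf]
  constructor
  · rintro ⟨hxD, hxb⟩
    obtain ⟨q, rfl⟩ := exists_el e hxD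
    refine ⟨q, rfl, ?_⟩
    have := (d8_mem_iff (el e (sr 0)) _).mp hxb
    apply el_inj e
    rw [el_mul, el_mul]; exact this
  · rintro ⟨q, rfl, hq⟩
    refine ⟨el_mem e q, ?_⟩
    rw [d8_mem_iff, ← el_mul, ← el_mul, hq]

theorem V1_le : V1 e ≤ Subgroup.centralizer ({z} : Set G) := inf_le_left

theorem card_V1 : Nat.card (V1 e) = 4 := by
  have hf : Function.Bijective (fun q : {q : DihedralGroup 4 // sr 0 * q = q * sr 0} =>
      (⟨el e q.1, (mem_V1 e _).mpr ⟨q.1, rfl, q.2⟩⟩ : V1 e)) := by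
    constructor
    · intro p q h
      apply Subtype.ext
      have h' : el e p.1 = el e q.1 := by
        have := congrArg (fun v : V1 e => (v : G)) h
        exact this
      exact el_inj e h'
    · rintro ⟨x, hx⟩
      obtain ⟨q, rfl, hq⟩ := (mem_V1 e x).mp hx
      exact ⟨⟨q, hq⟩, rfl⟩
  rw [← Nat.card_eq_of_bijective _ hf, Nat.card_eq_fintype_card]
  decide

end el

/-! ### general lemmas -/

section gen

variable {G : Type u} [Group G]

theorem conj_trans {z x y : G} (hx : ∃ g : G, g * z * g⁻¹ = x) (k : G)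
    (h : k * y * k⁻¹ = x) : ∃ g : G, g * z * g⁻¹ = y := by
  obtain ⟨g, hg⟩ := hx
  refine ⟨k⁻¹ * g, ?_⟩
  have : y = k⁻¹ * x * k := by rw [← h]; group
  rw [this, ← hg]; group

theorem inv_mul_mem_centralizer {z n k : G} (h : n * z * n⁻¹ = k * z * k⁻¹) :
    k⁻¹ * n ∈ Subgroup.centralizer ({z} : Set G) := by
  rw [d8_mem_iff]
  have h1 : k⁻¹ * (n * z * n⁻¹) * k = z := by rw [h]; group
  calc z * (k⁻¹ * n) = (k⁻¹ * (n * z * n⁻¹) * k) * (k⁻¹ * n) := by rw [h1]
    _ = k⁻¹ * n * z := by group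

/-- an element of odd order commuting with a conjugate of `z` is trivial -/
theorem odd_comm [Finite G] {z : G}
    (e : Subgroup.centralizer ({z} : Set G) ≃* DihedralGroup 4) {x y : G}
    (hx : ∃ g : G, g * z * g⁻¹ = x) (hxy : x * y = y * x) {n : ℕ} (hn : Odd n)
    (hy : y ^ n = 1) : y = 1 := by
  obtain ⟨g, rfl⟩ := hx
  have hw : g⁻¹ * y * g ∈ Subgroup.centralizer ({z} : Set G) := by
    rw [d8_mem_iff]
    calc z * (g⁻¹ * y * g) = g⁻¹ * (g * z * g⁻¹ * y) * g := by group
      _ = g⁻¹ * (y * (g * z * g⁻¹)) * g := by rw [hxy]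
      _ = g⁻¹ * y * g * z := by group
  have h8 : (g⁻¹ * y * g) ^ 8 = 1 := by
    have h := pow_card_eq_one' (G := Subgroup.centralizer ({z} : Set G)) (x := ⟨_, hw⟩)
    rw [d8_card z e] at h
    exact congrArg Subtype.val h
  have hn' : (g⁻¹ * y * g) ^ n = 1 := by
    have h : g⁻¹ * y * g = g⁻¹ * y * g⁻¹⁻¹ := by rw [inv_inv]
    rw [h, conj_pow, hy]; group
  have hd : orderOf (g⁻¹ * y * g) ∣ Nat.gcd n 8 :=
    Nat.dvd_gcd (orderOf_dvd_of_pow_eq_one hn') (orderOf_dvd_of_pow_eq_one h8)
  have hg : Nat.gcd n 8 = 1 := by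
    have h : Nat.Coprime n (2 ^ 3) := Nat.Coprime.pow_right 3 (Nat.coprime_two_right.mpr hn)
    exact h
  rw [hg, Nat.dvd_one, orderOf_eq_one_iff] at hd
  calc y = g * (g⁻¹ * y * g) * g⁻¹ := by group
    _ = 1 := by rw [hd]; group

end gen

/-! ### the main lemma -/

theorem d8_case_ii {G : Type u} [Group G] [Finite G] (z : G) (hz : orderOf z = 2)
    (e : Subgroup.centralizer ({z} : Set G) ≃* DihedralGroup 4)
    (h1 : ∃ g : G, g * z * g⁻¹ =
      ((e.symm (DihedralGroup.sr 0) : Subgroup.centralizer ({z} : Set G)) : G))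
    (h2 : ¬ ∃ g : G, g * z * g⁻¹ =
      ((e.symm (DihedralGroup.sr 1) : Subgroup.centralizer ({z} : Set G)) : G)) :
    Nonempty (G ≃* Equiv.Perm (Fin 4)) ∨ Nonempty (G ≃* Equiv.Perm (Fin 5)) := by
  classical
  have : Fact (Nat.Prime 2) := ⟨Nat.prime_two⟩
  have : Fact (Nat.Prime 3) := ⟨Nat.prime_three⟩
  obtain ⟨D, hD⟩ : ∃ D : Subgroup G, D = Subgroup.centralizer ({z} : Set G) := ⟨_, rfl⟩
  obtain ⟨b, hb⟩ : ∃ b : G, b = el e (sr 0) := ⟨_, rfl⟩
  obtain ⟨u, hu⟩ : ∃ u : G, u = el e (sr 1) := ⟨_, rfl⟩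
  obtain ⟨a, ha⟩ : ∃ a : G, a = el e (r 1) := ⟨_, rfl⟩
  obtain ⟨c, hc⟩ : ∃ c : G, c = el e (sr 2) := ⟨_, rfl⟩
  have hzz : el e (r 2) = z := el_r2 e hz
  have hz1 : z ≠ 1 := d8_t_ne z hz
  obtain ⟨g1, hg1⟩ : ∃ g : G, g * z * g⁻¹ = b := by rw [hb]; exact h1
  have h2' : ¬ ∃ g : G, g * z * g⁻¹ = u := by rw [hu]; exact h2
  have hcz : ∃ g : G, g * z * g⁻¹ = z := ⟨1, by group⟩
  have hcb : ∃ g : G, g * z * g⁻¹ = b := ⟨g1, hg1⟩
  have habc : a * b * a⁻¹ = c := by
    rw [ha, hb, hc, ← el_inv, ← el_mul, ← el_mul]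
    exact congrArg (el e) (by decide)
  have hcc : ∃ g : G, g * z * g⁻¹ = c := by
    refine ⟨a * g1, ?_⟩
    calc a * g1 * z * (a * g1)⁻¹ = a * (g1 * z * g1⁻¹) * a⁻¹ := by group
      _ = c := by rw [hg1, habc]
  have hbD : b ∈ D := by rw [hb, hD]; exact el_mem e _
  have huD : u ∈ D := by rw [hu, hD]; exact el_mem e _
  have haD : a ∈ D := by rw [ha, hD]; exact el_mem e _
  have hzD : z ∈ D := by rw [hD]; exact d8_t_mem z
  have hmemD : ∀ x : G, x ∈ D ↔ z * x = x * z := by
    intro x; rw [hD]; exact d8_mem_iff z x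
  have hcardD : Nat.card D = 8 := by rw [hD]; exact d8_card z e
  -- every element of `V1` is `1` or a conjugate of `z`
  have hV1conj : ∀ x ∈ V1 e, x = 1 ∨ ∃ g : G, g * z * g⁻¹ = x := by
    intro x hx
    obtain ⟨q, rfl, hq⟩ := (mem_V1 e x).mp hx
    rcases w1_cases q hq with rfl | rfl | rfl | rfl
    · left; exact el_one e
    · right; rw [hzz]; exact hcz
    · right; rw [← hb]; exact hcb
    · right; rw [← hc]; exact hcc
  -- the Sylow subgroup and the Thompson transfer
  obtain ⟨T, hT⟩ := d8_sylow z hz e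
  rw [← hD] at hT
  have hV1D : V1 e ≤ D := by rw [hD]; exact V1_le e
  have hV1T : V1 e ≤ (T : Subgroup G) := by rw [hT]; exact hV1D
  have hrel : (V1 e).relIndex (T : Subgroup G) = 2 := by
    have h := Subgroup.card_mul_index ((V1 e).subgroupOf (T : Subgroup G))
    rw [card_subgroupOf_of_le hV1T, card_V1, hT, hcardD] at h
    have h' : (V1 e).relIndex D = ((V1 e).subgroupOf D).index := rfl
    rw [hT, h']
    omega
  have hu1 : u ≠ 1 := by
    intro h
    rw [hu, ← el_one e] at h
    exact absurd (el_inj e h) (by decide)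
  have huu : u * u = 1 := by
    rw [hu, ← el_mul, ← el_one e]
    exact congrArg (el e) (by decide)
  have hu2 : orderOf u = 2 := d8_orderOf hu1 huu
  have huV : u ∉ V1 e := by
    intro h
    obtain ⟨q, hq, hq2⟩ := (mem_V1 e u).mp h
    rw [hu] at hq
    have := el_inj e hq
    subst this
    exact absurd hq2 (by decide)
  obtain ⟨M, hMn, hMi, huM⟩ : ∃ M : Subgroup G, M.Normal ∧ M.index = 2 ∧ u ∉ M := by
    rcases Cfsg.Agent.S0111.result T (V1 e) hV1T hrel u hu2 (by rw [hT]; exact huD) huV with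
      h | ⟨g, hg⟩
    · exact h
    · exfalso
      rcases hV1conj _ hg with h | h
      · apply hu1
        calc u = g⁻¹ * (g * u * g⁻¹) * g := by group
          _ = 1 := by rw [h]; group
      · exact h2' (conj_trans h g rfl)
  have hmul : ∀ x y : G, x * y ∈ M ↔ (x ∈ M ↔ y ∈ M) :=
    fun x y => Subgroup.mul_mem_iff_of_index_two hMi
  have hzM : z ∈ M := by
    have h := Subgroup.mul_self_mem_of_index_two hMi a
    rw [ha, ← el_mul] at h
    have h' : (r 1 * r 1 : DihedralGroup 4) = r 2 := by decide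
    rwa [h', hzz] at h
  have hconjM : ∀ x : G, (∃ g : G, g * z * g⁻¹ = x) → x ∈ M := by
    rintro x ⟨g, rfl⟩; exact hMn.conj_mem z hzM g
  have hbM : b ∈ M := hconjM b hcb
  have hcM : c ∈ M := hconjM c hcc
  have haM : a ∉ M := by
    have h : a = b * u := by
      rw [ha, hb, hu, ← el_mul]
      exact congrArg (el e) (by decide)
    rw [h, hmul]; tauto
  have hDM : ∀ q : DihedralGroup 4, el e q ∈ M ↔ sr 0 * q = q * sr 0 := by
    intro q
    rcases d8_cases q with rfl | rfl | rfl | rfl | rfl | rfl | rfl | rfl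
    · have h : el e (r 0) = 1 := el_one e
      rw [h]; exact iff_of_true (one_mem _) (by decide)
    · rw [← ha]; exact iff_of_false haM (by decide)
    · rw [hzz]; exact iff_of_true hzM (by decide)
    · have h : el e (r 3) = el e (r 2) * el e (r 1) := by
        rw [← el_mul]
        exact congrArg (el e) (by decide)
      rw [h, hzz, ← ha, hmul]; exact iff_of_false (by tauto) (by decide)
    · rw [← hb]; exact iff_of_true hbM (by decide)
    · rw [← hu]; exact iff_of_false huM (by decide)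
    · rw [← hc]; exact iff_of_true hcM (by decide)
    · have h : el e (sr 3) = el e (r 2) * el e (sr 1) := by
        rw [← el_mul]
        exact congrArg (el e) (by decide)
      rw [h, hzz, ← hu, hmul]; exact iff_of_false (by tauto) (by decide)
  have hV1eq : ∀ x : G, x ∈ V1 e ↔ x ∈ D ∧ x ∈ M := by
    intro x
    rw [mem_V1]
    constructor
    · rintro ⟨q, rfl, hq⟩
      exact ⟨by rw [hD]; exact el_mem e q, (hDM q).mpr hq⟩
    · rintro ⟨hxD, hxM⟩
      rw [hD] at hxD
      obtain ⟨q, rfl⟩ := exists_el e hxD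
      exact ⟨q, rfl, (hDM q).mp hxM⟩
  have hV1M : V1 e ≤ M := fun x hx => ((hV1eq x).mp hx).2
  have hzV1 : z ∈ V1 e := (hV1eq z).mpr ⟨hzD, hzM⟩
  have hbV1 : b ∈ V1 e := (hV1eq b).mpr ⟨hbD, hbM⟩
  -- orders
  have hoddi : ¬ 2 ∣ D.index := by
    have h := T.not_dvd_index
    rwa [hT] at h
  have hcardG : 8 * D.index = Nat.card G := by
    have h := D.card_mul_index
    rwa [hcardD] at h
  have hcardM : Nat.card M * 2 = Nat.card G := by
    rw [← hMi]; exact M.card_mul_index
  -- the Sylow 2-subgroup of `M`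
  have hV1'card : Nat.card ((V1 e).subgroupOf M) = 4 := by
    rw [card_subgroupOf_of_le hV1M, card_V1]
  have hpg : IsPGroup 2 ((V1 e).subgroupOf M) :=
    IsPGroup.of_card (n := 2) (by rw [hV1'card]; norm_num)
  obtain ⟨P, hP⟩ := hpg.exists_le_sylow
  have hPcard : Nat.card P = 4 := by
    obtain ⟨k, hk⟩ := IsPGroup.iff_card.mp P.isPGroup'
    have hdvd : Nat.card P ∣ Nat.card M := Subgroup.card_subgroup_dvd_card _
    have h4 : Nat.card P ∣ 4 := by
      have hM4 : Nat.card M = 4 * D.index := by omega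
      rw [hM4, hk] at hdvd
      have hcop : Nat.Coprime (2 ^ k) D.index :=
        Nat.Coprime.pow_left k ((Nat.Prime.coprime_iff_not_dvd Nat.prime_two).mpr hoddi)
      rw [hk]; exact hcop.dvd_of_dvd_mul_right hdvd
    have h4' : 4 ≤ Nat.card P := by
      rw [← hV1'card]; exact Subgroup.card_le_of_le hP
    exact le_antisymm (Nat.le_of_dvd (by norm_num) h4) h4'
  have hPeq : (P : Subgroup M) = (V1 e).subgroupOf M :=
    (Subgroup.eq_of_le_of_card_ge hP (by rw [hPcard, hV1'card])).symm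
  have hCJ : Subgroup.centralizer ({(⟨z, hzM⟩ : M)} : Set M) = (P : Subgroup M) := by
    rw [hPeq]
    ext x
    rw [d8_mem_iff, Subgroup.mem_subgroupOf, hV1eq]
    constructor
    · intro h
      refine ⟨?_, x.2⟩
      rw [hmemD]
      exact congrArg Subtype.val h
    · rintro ⟨h, _⟩
      apply Subtype.ext
      exact (hmemD _).mp h
  -- `z` and `b` are conjugate inside `M`
  obtain ⟨g0, hg0M, hg0⟩ : ∃ g0 : G, g0 ∈ M ∧ g0 * z * g0⁻¹ = b := by
    by_cases h : g1 ∈ M
    · exact ⟨g1, h, hg1⟩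
    · refine ⟨g1 * u, ?_, ?_⟩
      · rw [hmul]; exact iff_of_false h huM
      · have huz : z * u = u * z := (hmemD u).mp huD
        calc g1 * u * z * (g1 * u)⁻¹ = g1 * (u * z * u⁻¹) * g1⁻¹ := by group
          _ = g1 * (z * u * u⁻¹) * g1⁻¹ := by rw [huz]
          _ = g1 * z * g1⁻¹ := by group
          _ = b := hg1
  have hbz : b ≠ z := by
    intro h
    have h' : el e (sr 0) = el e (r 2) := by rw [hzz, ← hb]; exact h
    exact absurd (el_inj e h') (by decide)
  have hnc : ¬ ∃ N : Subgroup M, N.Normal ∧ N.IsComplement' (P : Subgroup M) := by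
    rintro ⟨N, hNn, hNc⟩
    obtain ⟨⟨⟨n, hn⟩, ⟨p, hp⟩⟩, hnp⟩ := hNc.2 ⟨g0, hg0M⟩
    have hnp' : n * p = ⟨g0, hg0M⟩ := hnp
    have hpJ : (⟨z, hzM⟩ : M) * p = p * ⟨z, hzM⟩ := by
      rw [← hCJ] at hp
      exact (d8_mem_iff _ _).mp hp
    have hB : (⟨b, hbM⟩ : M) = n * ⟨z, hzM⟩ * n⁻¹ := by
      have h : (⟨b, hbM⟩ : M) = ⟨g0, hg0M⟩ * ⟨z, hzM⟩ * ⟨g0, hg0M⟩⁻¹ :=
        Subtype.ext hg0.symm
      rw [h, ← hnp']
      calc n * p * ⟨z, hzM⟩ * (n * p)⁻¹ = n * (p * ⟨z, hzM⟩ * p⁻¹) * n⁻¹ := by group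
        _ = n * (⟨z, hzM⟩ * p * p⁻¹) * n⁻¹ := by rw [hpJ]
        _ = n * ⟨z, hzM⟩ * n⁻¹ := by group
    have hmN : (⟨b, hbM⟩ : M) * (⟨z, hzM⟩ : M)⁻¹ ∈ N := by
      rw [hB]
      have h : n * ⟨z, hzM⟩ * n⁻¹ * (⟨z, hzM⟩ : M)⁻¹ =
          n * (⟨z, hzM⟩ * n⁻¹ * (⟨z, hzM⟩ : M)⁻¹) := by group
      rw [h]
      exact N.mul_mem hn (hNn.conj_mem _ (N.inv_mem hn) _)
    have hmP : (⟨b, hbM⟩ : M) * (⟨z, hzM⟩ : M)⁻¹ ∈ (P : Subgroup M) := by
      rw [hPeq]
      apply Subgroup.mul_mem
      · rw [Subgroup.mem_subgroupOf]; exact hbV1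
      · apply Subgroup.inv_mem
        rw [Subgroup.mem_subgroupOf]; exact hzV1
    have h1' : (⟨b, hbM⟩ : M) * (⟨z, hzM⟩ : M)⁻¹ = 1 := by
      have := hNc.disjoint.le_bot (Subgroup.mem_inf.mpr ⟨hmN, hmP⟩)
      exact (Subgroup.mem_bot).mp this
    apply hbz
    have h3 : (⟨b, hbM⟩ : M) = ⟨z, hzM⟩ := mul_inv_eq_one.mp h1'
    exact congrArg Subtype.val h3
  have hM12 := Cfsg.Agent.Lib.Helper5.v4_order P hPcard (⟨z, hzM⟩ : M)
    (by rw [Subgroup.orderOf_mk]; exact hz) hCJ hnc
  have hg0b' : (⟨g0, hg0M⟩ : M) * ⟨z, hzM⟩ * (⟨g0, hg0M⟩ : M)⁻¹ = ⟨b, hbM⟩ :=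
    Subtype.ext hg0
  have hub : u * b ≠ b * u := by
    intro h
    rw [hu, hb, ← el_mul, ← el_mul] at h
    exact absurd (el_inj e h) (by decide)
  rcases hM12 with h12 | h60
  · left
    have hG24 : Nat.card G = 24 := by omega
    apply Cfsg.Agent.Lib.Helper23.card_24_no_six_iso_s4 hG24
    intro x hx6
    have hx6' : x ^ 6 = 1 := by rw [← hx6]; exact pow_orderOf_eq_one x
    have ht2 : x ^ 3 * x ^ 3 = 1 := by rw [← pow_add]; exact hx6'
    have ht1 : x ^ 3 ≠ 1 := by
      intro h
      have := orderOf_dvd_of_pow_eq_one h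
      rw [hx6] at this
      omega
    have hy3 : (x ^ 2) ^ 3 = 1 := by rw [← pow_mul]; exact hx6'
    have hy1 : x ^ 2 ≠ 1 := by
      intro h
      have := orderOf_dvd_of_pow_eq_one h
      rw [hx6] at this
      omega
    have hty : x ^ 3 * x ^ 2 = x ^ 2 * x ^ 3 := by rw [← pow_add, ← pow_add]
    -- no element of order 3 commutes with `u`
    have key : ∀ y : G, y ^ 3 = 1 → y ≠ 1 → u * y = y * u → False := by
      intro y hy3 hy1 huy
      have hyM : y ∈ M := by
        have h : y = (y * y) * (y * y) := by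
          calc y = y ^ 3 * y := by rw [hy3, one_mul]
            _ = (y * y) * (y * y) := by
              simp only [pow_succ, pow_zero, one_mul, mul_assoc]
        rw [h]
        exact M.mul_mem (Subgroup.mul_self_mem_of_index_two hMi y)
          (Subgroup.mul_self_mem_of_index_two hMi y)
      obtain ⟨L, hL⟩ : ∃ L : Subgroup G, L = Subgroup.centralizer ({u} : Set G) ⊓ M :=
        ⟨_, rfl⟩
      have hLM : L ≤ M := by rw [hL]; exact inf_le_right
      have hzL : z ∈ L := by
        rw [hL]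
        exact Subgroup.mem_inf.mpr ⟨(d8_mem_iff u z).mpr ((hmemD u).mp huD).symm, hzM⟩
      have hyL : y ∈ L := by
        rw [hL]; exact Subgroup.mem_inf.mpr ⟨(d8_mem_iff u y).mpr huy, hyM⟩
      have h2L : 2 ∣ Nat.card L := by rw [← hz]; exact L.orderOf_dvd_natCard hzL
      have h3L : 3 ∣ Nat.card L := by
        have h : orderOf y = 3 := orderOf_eq_prime hy3 hy1
        rw [← h]; exact L.orderOf_dvd_natCard hyL
      have h6L : 6 ∣ Nat.card L :=
        Nat.Coprime.mul_dvd_of_dvd_of_dvd (by norm_num) h2L h3L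
      have hL12 : Nat.card L ∣ 12 := by rw [← h12]; exact Subgroup.card_dvd_of_le hLM
      have hidx := Subgroup.card_mul_index (L.subgroupOf M)
      rw [card_subgroupOf_of_le hLM, h12] at hidx
      have hbL : b ∈ L := by
        have hcases : (L.subgroupOf M).index = 2 ∨ (L.subgroupOf M).index = 1 := by
          obtain ⟨k, hk⟩ := h6L
          have hk12 : k ≤ 2 := by
            have := Nat.le_of_dvd (by norm_num) hL12
            omega
          rw [hk] at hidx
          interval_cases k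
          · omega
          · left; omega
          · right; omega
        rcases hcases with h | h
        · have hnorm := Subgroup.normal_of_index_eq_two h
          have hzL' : (⟨z, hzM⟩ : M) ∈ L.subgroupOf M := by
            rw [Subgroup.mem_subgroupOf]; exact hzL
          have h' := hnorm.conj_mem _ hzL' ⟨g0, hg0M⟩
          rw [hg0b', Subgroup.mem_subgroupOf] at h'
          exact h'
        · rw [Subgroup.index_eq_one] at h
          have h' : (⟨b, hbM⟩ : M) ∈ L.subgroupOf M := by rw [h]; trivial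
          rw [Subgroup.mem_subgroupOf] at h'
          exact h'
      rw [hL] at hbL
      exact hub ((d8_mem_iff u b).mp (Subgroup.mem_inf.mp hbL).1)
    -- conjugate `x ^ 3` into `D`
    have hpt : IsPGroup 2 (Subgroup.zpowers (x ^ 3)) := by
      apply IsPGroup.of_card (n := 1)
      rw [Nat.card_zpowers, pow_one]
      exact d8_orderOf ht1 ht2
    obtain ⟨n, -, hn⟩ :=
      exists_conj_mem_sylow T ⊤ (Subgroup.zpowers (x ^ 3)) le_top le_top hpt
    have hnD : n⁻¹ * x ^ 3 * n ∈ D := by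
      rw [← hT]; exact hn _ (Subgroup.mem_zpowers _)
    rw [hD] at hnD
    obtain ⟨q, hq⟩ := exists_el e hnD
    have hqq : q * q = 1 := by
      apply el_inj e
      rw [el_mul, el_one, ← hq]
      calc n⁻¹ * x ^ 3 * n * (n⁻¹ * x ^ 3 * n) = n⁻¹ * (x ^ 3 * x ^ 3) * n := by group
        _ = 1 := by rw [ht2]; group
    have hq1 : q ≠ 1 := by
      rintro rfl
      rw [el_one] at hq
      apply ht1
      calc x ^ 3 = n * (n⁻¹ * x ^ 3 * n) * n⁻¹ := by group
        _ = 1 := by rw [hq]; group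
    have hcomm : ∀ m : G, (m⁻¹ * x ^ 3 * m) * (m⁻¹ * x ^ 2 * m) =
        (m⁻¹ * x ^ 2 * m) * (m⁻¹ * x ^ 3 * m) := by
      intro m
      calc (m⁻¹ * x ^ 3 * m) * (m⁻¹ * x ^ 2 * m) = m⁻¹ * (x ^ 3 * x ^ 2) * m := by group
        _ = m⁻¹ * (x ^ 2 * x ^ 3) * m := by rw [hty]
        _ = (m⁻¹ * x ^ 2 * m) * (m⁻¹ * x ^ 3 * m) := by group
    have hconj3 : ∀ m : G, (m⁻¹ * x ^ 2 * m) ^ 3 = 1 := by
      intro m
      have h : m⁻¹ * x ^ 2 * m = m⁻¹ * x ^ 2 * m⁻¹⁻¹ := by rw [inv_inv]
      rw [h, conj_pow, hy3]; group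
    have hconj1 : ∀ m : G, m⁻¹ * x ^ 2 * m ≠ 1 := by
      intro m h
      apply hy1
      calc x ^ 2 = m * (m⁻¹ * x ^ 2 * m) * m⁻¹ := by group
        _ = 1 := by rw [h]; group
    have hZ : (∃ g : G, g * z * g⁻¹ = x ^ 3) → False := by
      intro h
      exact hy1 (odd_comm e h hty (n := 3) (by decide) hy3)
    rcases invol_cases q hqq hq1 with rfl | rfl | rfl | rfl | rfl
    · rw [hzz] at hq
      exact hZ (conj_trans hcz n⁻¹ (by rw [inv_inv]; exact hq))
    · rw [← hb] at hq
      exact hZ (conj_trans hcb n⁻¹ (by rw [inv_inv]; exact hq))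
    · rw [← hu] at hq
      exact key (n⁻¹ * x ^ 2 * n) (hconj3 n) (hconj1 n) (by rw [← hq]; exact hcomm n)
    · rw [← hc] at hq
      exact hZ (conj_trans hcc n⁻¹ (by rw [inv_inv]; exact hq))
    · have h3 : (n * a)⁻¹ * x ^ 3 * (n * a) = u := by
        calc (n * a)⁻¹ * x ^ 3 * (n * a) = a⁻¹ * (n⁻¹ * x ^ 3 * n) * a := by group
          _ = a⁻¹ * el e (sr 3) * a := by rw [hq]
          _ = u := by
            rw [ha, hu, ← el_inv, ← el_mul, ← el_mul]
            exact congrArg (el e) (by decide)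
      exact key ((n * a)⁻¹ * x ^ 2 * (n * a)) (hconj3 _) (hconj1 _)
        (by rw [← h3]; exact hcomm _)
  · right
    have hG120 : Nat.card G = 120 := by omega
    obtain ⟨N, hN⟩ : ∃ N : Subgroup G,
        N = Subgroup.normalizer ((V1 e : Subgroup G) : Set G) := ⟨_, rfl⟩
    have hDN : D ≤ N := by
      rw [hN]
      apply le_normalizer_of_conj_mem
      intro d hd w hw
      rw [hV1eq] at hw ⊢
      exact ⟨D.mul_mem (D.mul_mem hd hw.1) (D.inv_mem hd), hMn.conj_mem w hw.2 d⟩
    have hg0N : g0 ∈ N := by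
      have h : cj g0⁻¹ (V1 e) ≤ V1 e := by
        intro x hx
        rw [mem_cj, inv_inv] at hx
        rw [hV1eq]
        have hxM : x ∈ M := by
          have h := hMn.conj_mem _ (hV1M hx) g0⁻¹
          rw [inv_inv] at h
          have e1 : g0⁻¹ * (g0 * x * g0⁻¹) * g0 = x := by group
          rwa [e1] at h
        refine ⟨?_, hxM⟩
        rw [hmemD]
        have hcb' : b * (g0 * x * g0⁻¹) = (g0 * x * g0⁻¹) * b := by
          have h : g0 * x * g0⁻¹ ∈ Subgroup.centralizer ({el e (sr 0)} : Set G) :=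
            (Subgroup.mem_inf.mp hx).2
          rw [← hb] at h
          exact (d8_mem_iff b _).mp h
        rw [← hg0] at hcb'
        calc z * x = g0⁻¹ * (g0 * z * g0⁻¹ * (g0 * x * g0⁻¹)) * g0 := by group
          _ = g0⁻¹ * (g0 * x * g0⁻¹ * (g0 * z * g0⁻¹)) * g0 := by rw [hcb']
          _ = x * z := by group
      have h' := mem_normalizer_of_cj_eq (cj_eq_of_le h)
      rw [hN]
      have h'' := Subgroup.inv_mem _ h'
      rwa [inv_inv] at h''
    have hcag : a * g0 * z * (a * g0)⁻¹ = c := by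
      calc a * g0 * z * (a * g0)⁻¹ = a * (g0 * z * g0⁻¹) * a⁻¹ := by group
        _ = c := by rw [hg0, habc]
    have hN3 : ∀ n ∈ N, n * z * n⁻¹ = z ∨ n * z * n⁻¹ = b ∨ n * z * n⁻¹ = c := by
      intro n hn
      rw [hN] at hn
      have h := conj_mem_of_mem_normalizer hn hzV1
      obtain ⟨q, hq, hq2⟩ := (mem_V1 e _).mp h
      rcases w1_cases q hq2 with rfl | rfl | rfl | rfl
      · exfalso
        rw [el_one] at hq
        apply hz1
        calc z = n⁻¹ * (n * z * n⁻¹) * n := by group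
          _ = 1 := by rw [hq]; group
      · left; rw [hq, hzz]
      · right; left; rw [hq, hb]
      · right; right; rw [hq, hc]
    have hcover : (N : Set G) ⊆ (D : Set G) ∪ ((fun d => g0 * d) '' (D : Set G)) ∪
        ((fun d => a * g0 * d) '' (D : Set G)) := by
      intro n hn
      rcases hN3 n hn with h | h | h
      · left; left
        have h' : (1 : G)⁻¹ * n ∈ Subgroup.centralizer ({z} : Set G) :=
          inv_mul_mem_centralizer (by rw [h]; group)
        rw [inv_one, one_mul, ← hD] at h'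
        exact h'
      · left; right
        have h' : g0⁻¹ * n ∈ Subgroup.centralizer ({z} : Set G) :=
          inv_mul_mem_centralizer (by rw [h, hg0])
        rw [← hD] at h'
        exact ⟨g0⁻¹ * n, h', by group⟩
      · right
        have h' : (a * g0)⁻¹ * n ∈ Subgroup.centralizer ({z} : Set G) :=
          inv_mul_mem_centralizer (by rw [h, hcag])
        rw [← hD] at h'
        exact ⟨(a * g0)⁻¹ * n, h', by group⟩
    have hNle : Nat.card N ≤ 24 := by
      have h1 : Nat.card N = (N : Set G).ncard := Nat.card_coe_set_eq (N : Set G)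
      have hD8 : (D : Set G).ncard = 8 := by
        rw [← Nat.card_coe_set_eq]; exact hcardD
      have h2 := Set.ncard_le_ncard hcover (Set.toFinite _)
      have h3 := Set.ncard_union_le ((D : Set G) ∪ ((fun d => g0 * d) '' (D : Set G)))
        ((fun d => a * g0 * d) '' (D : Set G))
      have h4 := Set.ncard_union_le (D : Set G) ((fun d => g0 * d) '' (D : Set G))
      have h5 := Set.ncard_image_le (f := fun d => g0 * d) (s := (D : Set G)) (Set.toFinite _)
      have h6 := Set.ncard_image_le (f := fun d => a * g0 * d) (s := (D : Set G))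
        (Set.toFinite _)
      omega
    have h8N : 8 ∣ Nat.card N := by rw [← hcardD]; exact Subgroup.card_dvd_of_le hDN
    have hN120 : Nat.card N ∣ 120 := by
      rw [← hG120]; exact Subgroup.card_subgroup_dvd_card N
    have hNne : Nat.card N ≠ 8 := by
      intro h
      have hDeq : D = N := Subgroup.eq_of_le_of_card_ge hDN (by rw [h, hcardD])
      have hg0D : g0 ∈ D := by rw [hDeq]; exact hg0N
      apply hbz
      rw [← hg0]
      have h' := (hmemD g0).mp hg0D
      calc g0 * z * g0⁻¹ = z * g0 * g0⁻¹ := by rw [h']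
        _ = z := by group
    have hN24 : Nat.card N = 24 := by
      obtain ⟨k, hk⟩ := h8N
      have hpos : 0 < Nat.card N := Nat.card_pos
      have hk3 : k ≤ 3 := by omega
      rw [hk] at hN120 hNne hpos
      interval_cases k
      · omega
      · omega
      · norm_num at hN120
      · rw [hk]
    have hKle : N.normalCore ≤ N := Subgroup.normalCore_le N
    have hKn : N.normalCore.Normal := Subgroup.normalCore_normal N
    have hcM60 : Nat.card M = 60 := h60
    have hK : N.normalCore = ⊥ := by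
      rw [eq_bot_iff]
      intro k hk
      rw [Subgroup.mem_bot]
      by_cases hzK : z ∈ N.normalCore
      · exfalso
        have hall : ∀ gg : G, ∀ x ∈ V1 e, gg * x * gg⁻¹ ∈ V1 e := by
          intro gg x hx
          have hxK : x ∈ N.normalCore := by
            rcases hV1conj x hx with rfl | ⟨h, rfl⟩
            · exact one_mem _
            · exact hKn.conj_mem z hzK h
          have hyK : gg * x * gg⁻¹ ∈ N.normalCore := hKn.conj_mem x hxK gg
          have hyN : gg * x * gg⁻¹ ∈ Subgroup.normalizer ((V1 e : Subgroup G) : Set G) := by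
            rw [← hN]; exact hKle hyK
          have hyM : gg * x * gg⁻¹ ∈ M := hMn.conj_mem x (hV1M hx) gg
          have hxx : x * x = 1 := by
            obtain ⟨q, rfl, hq⟩ := (mem_V1 e x).mp hx
            rw [← el_mul, w1_sq q hq, el_one]
          have hyy : (gg * x * gg⁻¹) ^ 2 = 1 := by
            rw [pow_two]
            calc gg * x * gg⁻¹ * (gg * x * gg⁻¹) = gg * (x * x) * gg⁻¹ := by group
              _ = 1 := by rw [hxx]; group
          have hpy : IsPGroup 2 (Subgroup.zpowers (gg * x * gg⁻¹)) := by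
            have hd : orderOf (gg * x * gg⁻¹) ∣ 2 := orderOf_dvd_of_pow_eq_one hyy
            rcases (Nat.dvd_prime Nat.prime_two).mp hd with h | h
            · exact IsPGroup.of_card (n := 0) (by rw [Nat.card_zpowers, h, pow_zero])
            · exact IsPGroup.of_card (n := 1) (by rw [Nat.card_zpowers, h, pow_one])
          have hpV : IsPGroup 2 (V1 e) := IsPGroup.of_card (n := 2) (by rw [card_V1]; norm_num)
          have hle : Subgroup.zpowers (gg * x * gg⁻¹) ≤
              Subgroup.normalizer ((V1 e : Subgroup G) : Set G) := by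
            rw [Subgroup.zpowers_le]; exact hyN
          have hpS := IsPGroup.to_sup_of_normal_right' hpy hpV hle
          obtain ⟨j, hj⟩ := IsPGroup.iff_card.mp hpS
          have hSM : Subgroup.zpowers (gg * x * gg⁻¹) ⊔ V1 e ≤ M :=
            sup_le (by rw [Subgroup.zpowers_le]; exact hyM) hV1M
          have hd60 : 2 ^ j ∣ 60 := by
            rw [← hj, ← hcM60]; exact Subgroup.card_dvd_of_le hSM
          have hj2 : j ≤ 2 := by
            by_contra hcon
            have h8 : 2 ^ 3 ∣ 2 ^ j := pow_dvd_pow 2 (by omega)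
            have := h8.trans hd60
            norm_num at this
          have hcard_le : Nat.card (Subgroup.zpowers (gg * x * gg⁻¹) ⊔ V1 e : Subgroup G) ≤
              Nat.card (V1 e) := by
            rw [hj, card_V1]
            calc 2 ^ j ≤ 2 ^ 2 := Nat.pow_le_pow_right (by norm_num) hj2
              _ = 4 := by norm_num
          have hSeq : V1 e = Subgroup.zpowers (gg * x * gg⁻¹) ⊔ V1 e :=
            Subgroup.eq_of_le_of_card_ge le_sup_right hcard_le
          rw [hSeq]
          exact le_sup_left (a := Subgroup.zpowers (gg * x * gg⁻¹))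
            (Subgroup.mem_zpowers _)
        have htop : (⊤ : Subgroup G) ≤ Subgroup.normalizer ((V1 e : Subgroup G) : Set G) :=
          le_normalizer_of_conj_mem ⊤ (V1 e) (fun gg _ w hw => hall gg w hw)
        rw [← hN] at htop
        have hNtop : N = ⊤ := top_le_iff.mp htop
        rw [hNtop, Subgroup.card_top, hG120] at hN24
        omega
      · have hKV : ∀ v : G, v ∈ N.normalCore → v ∈ V1 e → v = 1 := by
          intro v hvK hvV
          rcases hV1conj v hvV with h | ⟨h, rfl⟩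
          · exact h
          · exfalso
            apply hzK
            have h' := hKn.conj_mem _ hvK h⁻¹
            rw [inv_inv] at h'
            have e1 : h⁻¹ * (h * z * h⁻¹) * h = z := by group
            rwa [e1] at h'
        have hkN : k ∈ Subgroup.normalizer ((V1 e : Subgroup G) : Set G) := by
          rw [← hN]; exact hKle hk
        have hcomm : ∀ v ∈ V1 e, k * v = v * k := by
          intro v hv
          have h1 : k * v * k⁻¹ * v⁻¹ ∈ N.normalCore := by
            have e1 : k * v * k⁻¹ * v⁻¹ = k * (v * k⁻¹ * v⁻¹) := by group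
            rw [e1]
            exact Subgroup.mul_mem _ hk (hKn.conj_mem _ (Subgroup.inv_mem _ hk) v)
          have h2 : k * v * k⁻¹ * v⁻¹ ∈ V1 e :=
            Subgroup.mul_mem _ (conj_mem_of_mem_normalizer hkN hv) (Subgroup.inv_mem _ hv)
          have h3 := hKV _ h1 h2
          calc k * v = (k * v * k⁻¹ * v⁻¹) * v * k := by group
            _ = v * k := by rw [h3, one_mul]
        have hkV : k ∈ V1 e := by
          unfold V1
          rw [Subgroup.mem_inf]
          refine ⟨(d8_mem_iff z k).mpr (hcomm z hzV1).symm, ?_⟩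
          rw [← hb]
          exact (d8_mem_iff b k).mpr (hcomm b hbV1).symm
        exact hKV k hk hkV
    have hinj : Function.Injective (MulAction.toPermHom G (G ⧸ N)) := by
      rw [← MonoidHom.ker_eq_bot_iff, ← Subgroup.normalCore_eq_ker, hK]
    have hcardQ : Nat.card (G ⧸ N) = 5 := by
      have h := N.card_mul_index
      rw [hN24, hG120] at h
      rw [← Subgroup.index_eq_card]; omega
    have hcardP : Nat.card (Equiv.Perm (G ⧸ N)) = 120 := by
      rw [Nat.card_perm, hcardQ]; rfl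
    have hbij : Function.Bijective (MulAction.toPermHom G (G ⧸ N)) := by
      rw [Nat.bijective_iff_injective_and_card]
      exact ⟨hinj, by rw [hG120, hcardP]⟩
    exact ⟨(MulEquiv.ofBijective _ hbij).trans
      (Equiv.permCongrHom (Finite.equivFinOfCardEq hcardQ))⟩

end Cfsg.Agent.Lib.Helper61.D8CaseII
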