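import Cfsg.Agent.Lib.Helper61.F15Defs
import Cfsg.Agent.Lib.Helper61.TT5Defs
import Cfsg.Agent.Lib.Helper32.TT5P7
import Cfsg.Agent.Lib.Helper11.Fischer

/-!
# S1615: the reversal of an `A₄` path and its consequence for twins (helper61)
-/

set_option autoImplicit false

namespace Cfsg.Agent.Lib.Helper61.F15

open Cfsg Cfsg.Agent.Lib.Helper11

variable {G : Type*} [Group G] {D : Set G}

theorem perm5_rev :
    ((Equiv.swap 0 4 * Equiv.swap 1 3 : Equiv.Perm (Fin 5)) * Equiv.swap 0 1 *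
        (Equiv.swap 0 4 * Equiv.swap 1 3)⁻¹ = Equiv.swap 3 4) ∧
    ((Equiv.swap 0 4 * Equiv.swap 1 3 : Equiv.Perm (Fin 5)) * Equiv.swap 3 4 *
        (Equiv.swap 0 4 * Equiv.swap 1 3)⁻¹ = Equiv.swap 0 1) ∧
    ((Equiv.swap 0 4 * Equiv.swap 1 3 : Equiv.Perm (Fin 5)) * Equiv.swap 2 3 *
        (Equiv.swap 0 4 * Equiv.swap 1 3)⁻¹ = Equiv.swap 1 2) ∧
    ((Equiv.swap 0 4 * Equiv.swap 1 3 : Equiv.Perm (Fin 5)) * Equiv.swap 1 2 *
        (Equiv.swap 0 4 * Equiv.swap 1 3)⁻¹ = Equiv.swap 2 3) := by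
  decide

/-- an `A₄` path `a – h – c – b` of involutions can be reversed by conjugation -/
theorem path_rev {a h c b : G} (haa : a * a = 1) (hhh : h * h = 1) (hcc : c * c = 1)
    (hbb : b * b = 1) (hah : a * h * a = h * a * h) (hhc : h * c * h = c * h * c)
    (hcb : c * b * c = b * c * b) (hac : a * c = c * a) (hab : a * b = b * a)
    (hhb : h * b = b * h) (hne : a ≠ c) :
    ∃ w : G, w * a * w⁻¹ = b ∧ w * b * w⁻¹ = a ∧ w * c * w⁻¹ = h ∧ w * h * w⁻¹ = c := by
  obtain ⟨f, -, f1, f2, f3, f4⟩ := Cfsg.Agent.Lib.Helper32.TT5.cox a h c b haa hhh hcc hbb hah hhc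
    hcb hac hab hhb hne
  obtain ⟨e1, e2, e3, e4⟩ := perm5_rev
  refine ⟨f (Equiv.swap 0 4 * Equiv.swap 1 3), ?_, ?_, ?_, ?_⟩
  · rw [← f1, ← f4, ← map_inv, ← map_mul, ← map_mul, e1]
  · rw [← f1, ← f4, ← map_inv, ← map_mul, ← map_mul, e2]
  · rw [← f2, ← f3, ← map_inv, ← map_mul, ← map_mul, e3]
  · rw [← f2, ← f3, ← map_inv, ← map_mul, ← map_mul, e4]

/-- if `b, c` are twins at `a` and `h ≠ b` commutes with `b` but not with `c`, then `h` does not
commute with `a` and every common neighbour of `a, b` commutes with `h` -/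
theorem twB (hD : IsThreeTranspositionClass D) {a b c h : G} (ht : Tw D a b c) (hh : h ∈ D)
    (hhb : h ≠ b) (hcb : Commute h b) (hnc : ¬ Commute h c) :
    ¬ Commute h a ∧ ∀ g ∈ D, g ≠ a → g ≠ b → Commute g a → Commute g b → Commute g h := by
  obtain ⟨ha, hb, hc, hab, hac, hbc, htw⟩ := ht
  have hhc : h ≠ c := by
    rintro rfl
    exact hnc (Commute.refl _)
  have hha : ¬ Commute h a := by
    intro hcom
    exact hnc ((htw h hh hcom.symm hhb hhc).1 hcb)
  refine ⟨hha, ?_⟩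
  have hne : a ≠ c := by
    rintro rfl
    exact hbc hab.symm
  obtain ⟨w, w1, w2, w3, w4⟩ := path_rev (tt_sq hD ha) (tt_sq hD hh) (tt_sq hD hc) (tt_sq hD hb)
    (tt_braid hD ha hh (fun hc' => hha hc'.symm)).1 (tt_braid hD hh hc hnc).1
    (tt_braid hD hc hb (fun hc' => hbc hc'.symm)).1 hac.eq hab.eq hcb.eq hne
  intro g hg hga hgb hcga hcgb
  -- g' = w g w⁻¹
  have hg' : w * g * w⁻¹ ∈ D := tt_conj_mem hD hg w
  have conj_comm : ∀ {x y : G}, Commute x y → Commute (w * x * w⁻¹) (w * y * w⁻¹) := by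
    intro x y hxy
    have := (ttcj_commute_iff w x y).mpr hxy
    simpa [ttcj_def] using this
  have h1 : Commute (w * g * w⁻¹) b := by
    have := conj_comm hcga
    rwa [w1] at this
  have h2 : Commute (w * g * w⁻¹) a := by
    have := conj_comm hcgb
    rwa [w2] at this
  have hne_b : w * g * w⁻¹ ≠ b := by
    intro heq
    apply hga
    have : w * g * w⁻¹ = w * a * w⁻¹ := by rw [heq, w1]
    have h5 : w * g = w * a := mul_right_cancel this
    exact mul_left_cancel h5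
  have hne_c : w * g * w⁻¹ ≠ c := by
    intro heq
    rw [heq] at h1
    exact hbc h1.symm
  have h3 : Commute (w * g * w⁻¹) c := (htw _ hg' h2.symm hne_b hne_c).1 h1
  -- conjugate back
  have h4 : Commute (w * g * w⁻¹) (w * h * w⁻¹) := by rw [w4]; exact h3
  have := (ttcj_commute_iff w g h).mp (by simpa [ttcj_def] using h4)
  exact this

end Cfsg.Agent.Lib.Helper61.F15
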