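import Cfsg.Agent.Lib.Helper61.F15Defs
import Cfsg.Agent.Lib.Helper61.F15Rev
import Cfsg.Agent.Lib.Helper46.F15P5
import Cfsg.Agent.Lib.Helper90.F15P6
import Cfsg.Agent.Lib.Helper43.F15P7

/-!
# S1615: twins everywhere, the local multipartite property and triangle-freeness (helper61)
-/

set_option autoImplicit false

namespace Cfsg.Agent.Lib.Helper61.F15

open Cfsg Cfsg.Agent.Lib.Helper11

variable {G : Type*} [Group G] {D : Set G}

/-- the twin relation is invariant under conjugation -/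
theorem tw_conj (hD : IsThreeTranspositionClass D) (g : G) {a b c : G} (ht : Tw D a b c) :
    Tw D (ttcj g a) (ttcj g b) (ttcj g c) := by
  obtain ⟨ha, hb, hc, hab, hac, hbc, htw⟩ := ht
  refine ⟨ttcj_mem hD ha g, ttcj_mem hD hb g, ttcj_mem hD hc g, (ttcj_commute_iff g a b).mpr hab,
    (ttcj_commute_iff g a c).mpr hac, fun h => hbc ((ttcj_commute_iff g b c).mp h), ?_⟩
  intro f hf hcf hfb hfc
  have hf' : ttcj g⁻¹ f ∈ D := ttcj_mem hD hf g⁻¹
  have e : f = ttcj g (ttcj g⁻¹ f) := (ttcj_cancel_inv g f).symm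
  have h1 : Commute a (ttcj g⁻¹ f) := by
    rw [e] at hcf
    exact (ttcj_commute_iff g a _).mp hcf
  have h2 : ttcj g⁻¹ f ≠ b := by
    intro h
    apply hfb
    rw [e, h]
  have h3 : ttcj g⁻¹ f ≠ c := by
    intro h
    apply hfc
    rw [e, h]
  have h4 := htw _ hf' h1 h2 h3
  rw [e, ttcj_commute_iff, ttcj_commute_iff]
  exact h4

/-- the neighbourhoods of two members of `D` have the same size -/
theorem Dn_ncard_eq [Finite G] (hD : IsThreeTranspositionClass D) {a a' : G} (ha : a ∈ D)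
    (ha' : a' ∈ D) : (Dn D a).ncard = (Dn D a').ncard := by
  obtain ⟨g, hg⟩ := tt_exists_conj hD ha ha'
  have hg' : ttcj g a = a' := hg
  apply ttcj_ncard g
  · rintro u ⟨hu, hua, hcu⟩
    refine ⟨ttcj_mem hD hu g, ?_, ?_⟩
    · intro h
      rw [← hg'] at h
      exact hua (ttcj_inj h)
    · rw [← hg']
      exact (ttcj_commute_iff g a u).mpr hcu
  · rintro u ⟨hu, hua, hcu⟩
    refine ⟨ttcj_mem hD hu g⁻¹, ?_, ?_⟩
    · intro h
      apply hua
      rw [← hg', ← h, ttcj_cancel_inv]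
    · rw [← hg'] at hcu
      have := (ttcj_commute_iff g⁻¹ (ttcj g a) u).mpr hcu
      rwa [ttcj_inv_cancel] at this

/-- every commuting pair has a twin -/
theorem tw_all [Finite G] (hP : TTPrim D) (hT : ∃ x y z, Tw D x y z) {a b : G} (ha : a ∈ D)
    (hb : b ∈ D) (hab : a ≠ b) (hc : Commute a b) : ∃ c, Tw D a b c := by
  obtain ⟨x, y, z, hT⟩ := hT
  have hxy : x ≠ y := by
    rintro rfl
    exact hT.2.2.2.2.2.1 hT.2.2.2.2.1
  obtain ⟨g, h1, h2⟩ := tt_pairs hP hT.1 hT.2.1 ha hb hxy hab hT.2.2.2.1 hc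
  refine ⟨ttcj g z, ?_⟩
  have := tw_conj hP.1 g hT
  rwa [h1, h2] at this

/-- among the neighbours of `b`, non-commuting members have the same neighbours -/
theorem tw_star [Finite G] (hP : TTPrim D) (hT : ∃ x y z, Tw D x y z) {b a u g : G}
    (hb : b ∈ D) (ha : a ∈ D) (hu : u ∈ D) (hg : g ∈ D) (hab : a ≠ b) (hcab : Commute a b)
    (hub : u ≠ b) (hcub : Commute u b) (hau : ¬ Commute a u) (hgb : g ≠ b) (hcgb : Commute g b)
    (hga : g ≠ a) (hcga : Commute g a) : Commute g u := by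
  have hD := hP.1
  obtain ⟨c, hc⟩ := tw_all hP hT ha hb hab hcab
  have hcD : c ∈ D := hc.2.2.1
  have hbc : ¬ Commute b c := hc.2.2.2.2.2.1
  by_cases huc : Commute u c
  · have hTu : Tw D u b c := Cfsg.Agent.Lib.Helper90.F15.twW hD hc hu hcub huc (fun h => hau h.symm)
    obtain ⟨h, hh, hhb, hchb, hnhc⟩ : ∃ h ∈ D, h ≠ b ∧ Commute h b ∧ ¬ Commute h c := by
      by_contra hcon
      push Not at hcon
      have hbc' : b = c := Cfsg.Agent.Lib.Helper43.F15.tt_W hP hb hcD (fun v hv hvb hcvb =>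
        ⟨fun heq => hbc (by rw [heq] at hcvb; exact hcvb.symm), hcon v hv hvb hcvb⟩)
      exact hbc (by rw [← hbc'])
    have hBa := twB hD hc hh hhb hchb hnhc
    have hgh : Commute g h := hBa.2 g hg hga hgb hcga hcgb
    have hgne : g ≠ h := by
      rintro rfl
      exact hBa.1 hcga
    exact Cfsg.Agent.Lib.Helper46.F15.twB' hP hTu hh hhb hchb hnhc g hg hgne hcgb hgh
  · exact (twB hD hc hu hub hcub huc).2 g hg hga hgb hcga hcgb

/-- the commuting graph has no triangle -/
theorem coc_of_tw [Finite G] (hP : TTPrim D) (hT : ∃ x y z, Tw D x y z) : Coc D := by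
  intro a ha b hb s hs hab hsa hsb hcab hcsa hcsb
  obtain ⟨c, hc⟩ := tw_all hP hT ha hb hab hcab
  obtain ⟨-, -, hcD, -, hcac, hbc, htw⟩ := hc
  have hsc : s ≠ c := by
    rintro rfl
    exact hbc hcsb.symm
  have hcsc : Commute s c := (htw s hs hcsa.symm hsb hsc).1 hcsb
  have hbc' : b = c := by
    apply Cfsg.Agent.Lib.Helper43.F15.tt_W hP hb hcD
    intro v hv hvb hcvb
    have hvc : v ≠ c := by
      rintro rfl
      exact hbc hcvb.symm
    refine ⟨hvc, ?_⟩
    by_cases hva : v = a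
    · rw [hva]; exact hcac
    by_cases hcva : Commute v a
    · exact (htw v hv hcva.symm hvb hvc).1 hcvb
    · have h1 : Commute s v := tw_star hP hT hb ha hv hs hab hcab hvb hcvb
        (fun h => hcva h.symm) hsb hcsb hsa hcsa
      have hvs : v ≠ s := by
        rintro rfl
        exact hcva hcsa
      exact tw_star hP hT hs hb hcD hv (Ne.symm hsb) hcsb.symm (Ne.symm hsc) hcsc.symm hbc hvs
        h1.symm hvb hcvb
  exact hbc (by rw [← hbc'])

end Cfsg.Agent.Lib.Helper61.F15
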