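import Mathlib
import Cfsg.Agent.Lib.Helper4.FCDefs

/-!
# Project FC (S4146, architect helper4): piece W (helper61)

In `C(b)` (`b` a `q`-element of class size `m = q ^ i`), a Sylow `q`-subgroup containing
`Q ∩ C(b)` centralizes the normal `q`-complement `K`.
-/

namespace Cfsg.Agent.Lib.Helper4.FC

universe u

theorem fc_w : KQStmt.{u} → W1Stmt.{u} → W2Stmt.{u} → W3Stmt.{u} → W4Stmt.{u} → WStmt.{u} := by
  intro hKQ hW1 hW2 hW3 hW4 G _ _ n m q K Q b x hFour hq hm hKn hKq hKi hbQ hcsb hxQ hxC u huK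
  obtain ⟨-, hKQtop, -⟩ := hKQ G q K Q hq hKn hKq hKi
  have hKC : K ≤ Cen b := by
    apply hW1 G K b hKn
    rw [hcsb]
    obtain ⟨i, rfl⟩ := hm
    exact Nat.Coprime.pow_right i hKq
  have hPrim : Prim q b := by
    haveI : Fact q.Prime := ⟨hq⟩
    obtain ⟨k, hk⟩ := (IsPGroup.iff_orderOf.mp Q.isPGroup') ⟨b, hbQ⟩
    refine ⟨k, ?_⟩
    rw [← hk]
    exact (Subgroup.orderOf_mk b hbQ).symm
  have hP : IsPGroup q ↥(((Q : Subgroup G) ⊓ Cen b).subgroupOf (Cen b)) :=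
    (Q.isPGroup'.to_le inf_le_left).comap_subtype
  obtain ⟨T, hT⟩ := hP.exists_le_sylow
  have hK'n : (K.subgroupOf (Cen b)).Normal := hKn.subgroupOf (Cen b)
  have hsup : K.subgroupOf (Cen b) ⊔ (T : Subgroup ↥(Cen b)) = ⊤ := by
    rw [eq_top_iff]
    intro c _
    have hc : (c : G) ∈ K ⊔ (Q : Subgroup G) := by rw [hKQtop]; exact Subgroup.mem_top _
    haveI := hKn
    rw [← SetLike.mem_coe, Subgroup.normal_mul] at hc
    obtain ⟨k, hk, y, hy, hky⟩ := Set.mem_mul.mp hc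
    have hkC : k ∈ Cen b := hKC hk
    have hyC : y ∈ Cen b := by
      have h1 : y = k⁻¹ * (c : G) := by rw [← hky]; group
      rw [h1]
      exact (Cen b).mul_mem ((Cen b).inv_mem hkC) c.2
    have hc' : c = (⟨k, hkC⟩ : ↥(Cen b)) * ⟨y, hyC⟩ := Subtype.ext hky.symm
    rw [hc']
    apply Subgroup.mul_mem_sup
    · exact Subgroup.mem_subgroupOf.mpr hk
    · exact hT (Subgroup.mem_subgroupOf.mpr ⟨hy, hyC⟩)
  have hcov : ∀ v ∈ K.subgroupOf (Cen b), ∃ k ∈ K.subgroupOf (Cen b),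
      ∀ y ∈ (T : Subgroup ↥(Cen b)), y * (k⁻¹ * v * k) = (k⁻¹ * v * k) * y := by
    intro v hv
    have hv' : (v : G) ∈ K := Subgroup.mem_subgroupOf.mp hv
    have h2 := hW2 G n m q K b v hFour hq hm hKn hKq hcsb hPrim hv'
    obtain ⟨k, hk, hk2⟩ := hW3 ↥(Cen b) q (K.subgroupOf (Cen b)) T v hq hK'n hsup h2
    exact ⟨k, hk, fun y hy => hk2 y hy⟩
  have hcen := hW4 ↥(Cen b) (K.subgroupOf (Cen b)) (T : Subgroup ↥(Cen b)) hK'n hcov
  have hxT : (⟨x, hxC⟩ : ↥(Cen b)) ∈ (T : Subgroup ↥(Cen b)) :=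
    hT (Subgroup.mem_subgroupOf.mpr ⟨hxQ, hxC⟩)
  have huK' : (⟨u, hKC huK⟩ : ↥(Cen b)) ∈ K.subgroupOf (Cen b) :=
    Subgroup.mem_subgroupOf.mpr huK
  have h := hcen ⟨x, hxC⟩ hxT ⟨u, hKC huK⟩ huK'
  exact congrArg Subtype.val h

end Cfsg.Agent.Lib.Helper4.FC
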