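import Mathlib
import Cfsg.Agent.Lib.Helper22.HPDefs
import Cfsg.Agent.Lib.Helper83.IrrBasic
import Cfsg.Agent.Lib.Helper82.PQ
import Cfsg.Agent.Lib.Helper67.BFZCENT
import Cfsg.Agent.Lib.Helper22.BFMain

/-!
# S4504 (project HP of helper22), piece TYPES: the five types of an irreducible character on
`z ^ t * K`, from `tri_all` of S4503 and the divisibility `p ∣ sP φ`.
-/

set_option autoImplicit false
set_option linter.style.haveILetI false

namespace Cfsg.Agent.Lib.Helper61.HPT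

open Cfsg Cfsg.Agent.Lib.Helper22.BFD Cfsg.Agent.Lib.Helper22.HPD
open scoped ComplexConjugate

universe u

/-- `sP φ` is a natural multiple of `p` for a character `φ` (as `hsP` in `BFMain.core`). -/
theorem types_sP {G : Type u} [Group G] [Fintype G] (p : ℕ) [Fact p.Prime] (z : G)
    (hz : orderOf z = p) (φ : G → ℂ) (hφ : IsCharacter G φ) :
    ∃ m : ℕ, sP p z φ = ((p * m : ℕ) : ℂ) := by
  have hp : p.Prime := Fact.out
  obtain ⟨ζ, hζ⟩ : ∃ ζ : ℂ, IsPrimitiveRoot ζ p :=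
    ⟨_, Complex.isPrimitiveRoot_exp p hp.ne_zero⟩
  have hzp : z ^ p = 1 := by rw [← hz]; exact pow_orderOf_eq_one z
  have hsum0 : ∀ u : ZMod p, ∑ t : ZMod p, ζ ^ (u * t).val = if u = 0 then (p : ℂ) else 0 := by
    intro u
    have h1 : ∀ t : ZMod p, ζ ^ (u * t).val =
        (AddChar.zmodChar p hζ.pow_eq_one) (t * u) := by
      intro t
      rw [AddChar.zmodChar_apply, mul_comm]
    rw [Finset.sum_congr rfl (fun t _ => h1 t),
      AddChar.sum_mulShift u (AddChar.zmodChar_primitive_of_primitive_root p hζ), ZMod.card]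
    split_ifs <;> simp
  obtain ⟨b, hb⟩ := Cfsg.Agent.Lib.Helper68.BFT.pdec p ζ hζ φ hφ z hzp
  refine ⟨b 0, ?_⟩
  unfold sP
  rw [Finset.sum_congr rfl (fun t _ => hb t), Finset.sum_comm]
  simp_rw [← Finset.mul_sum, hsum0]
  simp [mul_comm]

/-- splitting off the term `t = 0` of `sP` -/
theorem types_sP_split {G : Type u} [Group G] [Fintype G] (p : ℕ) [Fact p.Prime] (z : G)
    (φ : G → ℂ) :
    sP p z φ = φ 1 + ∑ t ∈ Finset.univ.filter (fun t : ZMod p => t ≠ 0), φ (z ^ t.val) := by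
  classical
  unfold sP
  rw [← Finset.sum_filter_add_sum_filter_not Finset.univ (fun t : ZMod p => t = 0)]
  congr 1
  rw [Finset.filter_eq' Finset.univ (0 : ZMod p)]
  simp

theorem types_one_mem_Kf {G : Type u} [Group G] [Fintype G] (p : ℕ) [Fact p.Prime] (z : G) :
    (1 : G) ∈ Kf p z := by
  classical
  have hp : p.Prime := Fact.out
  unfold Kf
  rw [Finset.mem_filter]
  refine ⟨Finset.mem_univ _, by simp, ?_⟩
  rw [orderOf_one]
  exact hp.one_lt.ne' ∘ Nat.dvd_one.mp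

theorem types_card_nonzero (p : ℕ) [Fact p.Prime] :
    (Finset.univ.filter (fun t : ZMod p => t ≠ 0)).card = p - 1 := by
  classical
  rw [Finset.filter_ne' Finset.univ (0 : ZMod p), Finset.card_erase_of_mem (Finset.mem_univ _),
    Finset.card_univ, ZMod.card]

/-- PIECE TYPES (the five types of an irreducible character; from `tri_all` of S4503) -/
theorem hp_types {G : Type u} [Group G] [Fintype G] (p : ℕ) [Fact p.Prime]
    (hdiv : p ∣ Nat.card G) (hsq : ¬ p ^ 2 ∣ Nat.card G) (z : G) (hz : orderOf z = p)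
    (φ : IrrCharacter G) :
    (∀ t : ZMod p, t ≠ 0 → ∑ y ∈ Kf p z, φ.1 (z ^ t.val * y) = 0) ∨
    ((∀ t : ZMod p, t ≠ 0 → ∀ y ∈ Kf p z, φ.1 (z ^ t.val * y) = 1) ∧
      ∃ m : ℕ, 1 ≤ m ∧ charDegree φ.1 + (p - 1) = p * m) ∨
    ((∀ t : ZMod p, t ≠ 0 → ∀ y ∈ Kf p z, φ.1 (z ^ t.val * y) = -1) ∧
      ∃ m : ℕ, charDegree φ.1 = p * m + (p - 1)) ∨
    ((∀ t : ZMod p, t ≠ 0 → ∀ y ∈ Kf p z, φ.1 (z ^ t.val * y) = φ.1 (z ^ t.val)) ∧
      ∃ m : ℕ, 1 ≤ m ∧ charDegree φ.1 + (Ef p z).card = p * m ∧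
        ∑ t ∈ Finset.univ.filter (fun t : ZMod p => t ≠ 0), φ.1 (z ^ t.val) =
          ((Ef p z).card : ℂ)) ∨
    ((∀ t : ZMod p, t ≠ 0 → ∀ y ∈ Kf p z, φ.1 (z ^ t.val * y) = φ.1 (z ^ t.val)) ∧
      ∃ m : ℕ, charDegree φ.1 = p * m + (Ef p z).card ∧
        ∑ t ∈ Finset.univ.filter (fun t : ZMod p => t ≠ 0), φ.1 (z ^ t.val) =
          -((Ef p z).card : ℂ)) := by
  classical
  have hp : p.Prime := Fact.out
  have hp1 : 1 ≤ p := hp.one_lt.le
  obtain ⟨hd1, hd0⟩ := Cfsg.Agent.Lib.Helper82.irr_charDegree φ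
  have hφc : IsCharacter G φ.1 := by
    obtain ⟨n, ρ, -, h⟩ := φ.2
    exact ⟨n, ρ, h⟩
  obtain ⟨m, hm⟩ := types_sP p z hz φ.1 hφc
  have hsplit := types_sP_split p z φ.1
  have hmpos : ∀ k : ℕ, charDegree φ.1 + k = p * m → 1 ≤ m := by
    intro k hk
    rcases Nat.eq_zero_or_pos m with h0 | h0
    · rw [h0, mul_zero] at hk
      omega
    · exact h0
  rcases Cfsg.Agent.Lib.Helper22.BFT.tri_all p hdiv hsq φ z hz with h | ⟨ε, hε, h⟩ | ⟨h, hs⟩
  · exact Or.inl h
  · -- constant ε on the p-singular part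
    have hval : ∀ t : ZMod p, t ≠ 0 → φ.1 (z ^ t.val) = ε := by
      intro t ht
      have := h t ht 1 (types_one_mem_Kf p z)
      rwa [mul_one] at this
    have hsum : ∑ t ∈ Finset.univ.filter (fun t : ZMod p => t ≠ 0), φ.1 (z ^ t.val) =
        ((p - 1 : ℕ) : ℂ) * ε := by
      rw [Finset.sum_congr rfl (fun t ht => hval t (Finset.mem_filter.mp ht).2),
        Finset.sum_const, types_card_nonzero, nsmul_eq_mul]
    rw [hsum, hm, ← hd1] at hsplit
    rcases hε with rfl | rfl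
    · refine Or.inr (Or.inl ⟨h, m, ?_, ?_⟩)
      · have h2 : charDegree φ.1 + (p - 1) = p * m := by
          have : ((p * m : ℕ) : ℂ) = ((charDegree φ.1 + (p - 1) : ℕ) : ℂ) := by
            rw [hsplit]; push_cast; ring
          exact_mod_cast this.symm
        exact hmpos _ h2
      · have : ((p * m : ℕ) : ℂ) = ((charDegree φ.1 + (p - 1) : ℕ) : ℂ) := by
          rw [hsplit]; push_cast; ring
        exact_mod_cast this.symm
    · refine Or.inr (Or.inr (Or.inl ⟨h, m, ?_⟩))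
      have : ((charDegree φ.1 : ℕ) : ℂ) = ((p * m + (p - 1) : ℕ) : ℂ) := by
        rw [Nat.cast_add, hsplit]; ring
      exact_mod_cast this
  · rcases hs with hs | hs
    · rw [hm, ← hd1] at hs
      have hsum : ∑ t ∈ Finset.univ.filter (fun t : ZMod p => t ≠ 0), φ.1 (z ^ t.val) =
          ((Ef p z).card : ℂ) := by
        have := hsplit
        rw [hm, hs, ← hd1] at this
        exact (add_left_cancel this).symm
      have h2 : charDegree φ.1 + (Ef p z).card = p * m := by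
        have : ((p * m : ℕ) : ℂ) = ((charDegree φ.1 + (Ef p z).card : ℕ) : ℂ) := by
          rw [hs]; push_cast; ring
        exact_mod_cast this.symm
      exact Or.inr (Or.inr (Or.inr (Or.inl ⟨h, m, hmpos _ h2, h2, hsum⟩)))
    · rw [hm, ← hd1] at hs
      have hsum : ∑ t ∈ Finset.univ.filter (fun t : ZMod p => t ≠ 0), φ.1 (z ^ t.val) =
          -((Ef p z).card : ℂ) := by
        have := hsplit
        rw [hm, hs, ← hd1, sub_eq_add_neg] at this
        exact (add_left_cancel this).symm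
      have h2 : charDegree φ.1 = p * m + (Ef p z).card := by
        have : ((charDegree φ.1 : ℕ) : ℂ) = ((p * m + (Ef p z).card : ℕ) : ℂ) := by
          rw [Nat.cast_add, hs]; ring
        exact_mod_cast this
      exact Or.inr (Or.inr (Or.inr (Or.inr ⟨h, m, h2, hsum⟩)))

end Cfsg.Agent.Lib.Helper61.HPT
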