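import Cfsg.Agent.Lib.Helper70.HeODefs

/-! Project HeO, second round (helper70; S2075, |Out(He)| = 2), piece NOINV (helper61):
no element of `C(z)` inverts `x` (of order 7), from a table check. -/

set_option autoImplicit false

namespace Cfsg.Agent.Lib.Helper61.HeONOINV

open Cfsg.Agent.Lib.Helper39.HeOrd Cfsg.Agent.Lib.Helper70.HeC Cfsg.Agent.Lib.Helper70.HeO
open Cfsg.Agent.Lib.Helper70.HeM (Wd)

/-- PIECE NOINV.  No element of `C(z)` inverts `x` (of order 7). -/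
theorem no_inverter {G : Type} [Group G] {T : Type} (tc : T → T → T) (t1 : T)
    (Rp : G → T → Prop) (z : G) (allT : List T)
    (R1 : Rp 1 t1) (Rm : ∀ g h N M, Rp g N → Rp h M → Rp (g * h) (tc N M))
    (Rfun : ∀ g N M, Rp g N → Rp g M → N = M)
    (Rex : ∀ g, g * z = z * g → ∃ N ∈ allT, Rp g N)
    (x : G) (TX : T) (hx : Rp x TX) (hx7 : x ^ 7 = 1)
    (hk : ∀ N ∈ allT, tc N TX ≠ tc (tpw tc t1 TX 6) N) :
    ∀ c : G, c * z = z * c → c * x * c⁻¹ ≠ x⁻¹ := by
  intro c hcz hinv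
  obtain ⟨N, hN, hcN⟩ := Rex c hcz
  have hpw : ∀ k : ℕ, Rp (x ^ k) (tpw tc t1 TX k) := by
    intro k
    induction k with
    | zero =>
      rw [pow_zero]
      exact R1
    | succ k ih =>
      rw [pow_succ']
      exact Rm x (x ^ k) TX (tpw tc t1 TX k) hx ih
  have h6 : x⁻¹ = x ^ 6 := by
    rw [inv_eq_iff_mul_eq_one, ← pow_succ']
    exact hx7
  have hcx : c * x = x ^ 6 * c := by
    rw [← h6, ← hinv]
    group
  have h1 : Rp (c * x) (tc N TX) := Rm c x N TX hcN hx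
  have h2 : Rp (c * x) (tc (tpw tc t1 TX 6) N) := by
    rw [hcx]
    exact Rm (x ^ 6) c _ N (hpw 6) hcN
  exact hk N hN (Rfun _ _ _ h1 h2)

end Cfsg.Agent.Lib.Helper61.HeONOINV
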