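import Mathlib
import Cfsg.Agent.S0016
import Cfsg.Agent.Lib.Helper61.Basic

/-! Nonabelian `2`-groups with a unique involution (generalized quaternion groups) as
quotients, and some computations in `QuaternionGroup n` (helper61). -/

set_option autoImplicit false

namespace Cfsg.Agent.Lib.Helper61

open Subgroup

/-- A nonabelian finite 2-group with a unique involution is generalized quaternion. -/
theorem quat_of_unique_involution {Q : Type*} [Group Q] [Finite Q] (hQ : IsPGroup 2 Q)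
    (hna : ¬ IsMulCommutative Q) (hu : ∃! x : Q, orderOf x = 2) :
    ∃ k : ℕ, 1 ≤ k ∧ Nonempty (Q ≃* QuaternionGroup (2 ^ k)) := by
  have : Fact (Nat.Prime 2) := ⟨Nat.prime_two⟩
  obtain ⟨u, hu2, huniq⟩ := hu
  have key : ∀ H : Subgroup Q, Nat.card H = 2 → H = zpowers u := by
    intro H hH
    have hnt : H ≠ ⊥ := by
      intro h
      rw [h, Subgroup.card_bot] at hH
      omega
    obtain ⟨h, hh1⟩ := (Subgroup.ne_bot_iff_exists_ne_one).mp hnt
    have h2 : orderOf h = 2 := by
      have hd : orderOf h ∣ 2 := hH ▸ orderOf_dvd_natCard h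
      rcases (Nat.dvd_prime Nat.prime_two).mp hd with h1 | h1
      · exact absurd (orderOf_eq_one_iff.mp h1) hh1
      · exact h1
    have h3 : orderOf (h : Q) = 2 := by rw [Subgroup.orderOf_coe]; exact h2
    have h4 : (h : Q) = u := huniq _ h3
    have hle : zpowers u ≤ H := by
      rw [zpowers_le, ← h4]; exact h.2
    exact (Subgroup.eq_of_le_of_card_ge hle (by rw [Nat.card_zpowers, hu2, hH])).symm
  have huq : ∀ H K : Subgroup Q, Nat.card H = 2 → Nat.card K = 2 → H = K :=
    fun H K hH hK => (key H hH).trans (key K hK).symm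
  rcases Cfsg.Agent.S0016.result 2 hQ huq with hc | ⟨-, k, ⟨e⟩⟩
  · exact absurd IsCyclic.isMulCommutative hna
  · refine ⟨k, ?_, ⟨e⟩⟩
    by_contra hk
    have hk0 : k = 0 := by omega
    subst hk0
    have hc : IsCyclic (QuaternionGroup (2 ^ 0)) := QuaternionGroup.quaternionGroup_one_isCyclic
    have : IsCyclic Q := isCyclic_of_surjective e.symm e.symm.surjective
    exact hna IsCyclic.isMulCommutative

/-- the quaternion quotient as a surjective homomorphism -/
theorem exists_quat_hom {S : Type*} [Group S] [Finite S] (hS : IsPGroup 2 S) (D : Subgroup S)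
    [D.Normal] (hna : ¬ IsMulCommutative (S ⧸ D)) (hu : ∃! x : S ⧸ D, orderOf x = 2) :
    ∃ (k : ℕ) (π : S →* QuaternionGroup (2 ^ k)), 1 ≤ k ∧ Function.Surjective π ∧ π.ker = D ∧
      ∃! x : QuaternionGroup (2 ^ k), orderOf x = 2 := by
  obtain ⟨k, hk, ⟨e⟩⟩ := quat_of_unique_involution (hS.to_quotient D) hna hu
  refine ⟨k, e.toMonoidHom.comp (QuotientGroup.mk' D), hk, ?_, ?_, ?_⟩
  · exact e.surjective.comp (QuotientGroup.mk'_surjective D)
  · ext s
    rw [MonoidHom.mem_ker]
    change e (QuotientGroup.mk s) = 1 ↔ _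
    rw [map_eq_one_iff e e.injective]
    exact QuotientGroup.eq_one_iff s
  · obtain ⟨u, hu2, huniq⟩ := hu
    refine ⟨e u, ?_, fun y hy => ?_⟩
    · change orderOf (e u) = 2
      rw [MulEquiv.orderOf_eq]; exact hu2
    · have hy' : orderOf y = 2 := hy
      have h1 : orderOf (e.symm y) = 2 := by rw [MulEquiv.orderOf_eq]; exact hy'
      have := huniq (e.symm y) h1
      rw [← this, MulEquiv.apply_symm_apply]

/-- a maximal subgroup of a finite `p`-group has index `p` -/
theorem index_of_isCoatom {Z : Type*} [Group Z] [Finite Z] {p : ℕ} (hp : p.Prime)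
    (hZ : IsPGroup p Z) (C : Subgroup Z) (hC : IsCoatom C) : C.index = p := by
  have : Fact p.Prime := ⟨hp⟩
  obtain ⟨m, hm⟩ := hZ.index C
  have hm0 : m ≠ 0 := by
    rintro rfl
    rw [pow_zero] at hm
    exact hC.1 (Subgroup.index_eq_one.mp hm)
  have hdvd : p ∣ C.relIndex ⊤ := by
    rw [Subgroup.relIndex_top_right, hm]; exact dvd_pow_self p hm0
  obtain ⟨K, hCK, -, hrel, -, -, -⟩ := exists_overgroup hp ⊤ C le_top (hZ.to_subgroup C) hdvd
  rcases hCK.eq_or_lt with h | h
  · exfalso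
    rw [← h, Subgroup.relIndex_self] at hrel
    exact hp.one_lt.ne hrel
  · have := hC.2 K h
    rw [this, Subgroup.relIndex_top_right] at hrel
    exact hrel

/-- normalizing a cyclic subgroup -/
theorem mem_normalizer_zpowers {G : Type*} [Group G] (g c : G) (h1 : g * c * g⁻¹ ∈ zpowers c)
    (h2 : g⁻¹ * c * g ∈ zpowers c) : g ∈ normalizer ((zpowers c : Subgroup G) : Set G) := by
  rw [mem_normalizer_iff]
  intro w
  constructor
  · rintro ⟨j, rfl⟩
    have e : g * c ^ j * g⁻¹ = (g * c * g⁻¹) ^ j := by rw [conj_zpow]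
    rw [e]
    exact zpow_mem h1 j
  · intro hw
    have e : w = g⁻¹ * (g * w * g⁻¹) * g := by group
    obtain ⟨j, hj⟩ := mem_zpowers_iff.mp hw
    rw [e, ← hj]
    have e2 : g⁻¹ * c ^ j * g = (g⁻¹ * c * g) ^ j := by
      have := conj_zpow (a := g⁻¹) (b := c) (i := j)
      rw [inv_inv] at this; exact this.symm
    rw [e2]; exact zpow_mem h2 j

section quat

open QuaternionGroup

theorem quat_two_ne_zero {n : ℕ} (hn : 2 ≤ n) : (2 : ZMod (2 * n)) ≠ 0 := by
  intro h
  have h1 : ((2 : ℕ) : ZMod (2 * n)) = 0 := by exact_mod_cast h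
  rw [ZMod.natCast_eq_zero_iff] at h1
  have := Nat.le_of_dvd (by norm_num) h1
  omega

/-- `a 1` and `xa 0` do not commute -/
theorem quat_not_comm {n : ℕ} (hn : 2 ≤ n) :
    (a 1 : QuaternionGroup n) * xa 0 ≠ xa 0 * a 1 := by
  rw [a_mul_xa, xa_mul_a]
  intro h
  have h1 : (0 - 1 : ZMod (2 * n)) = 0 + 1 := by injection h
  apply quat_two_ne_zero hn
  linear_combination (-1 : ZMod (2 * n)) * h1

/-- `xa 0 * a 1` is not central -/
theorem quat_not_comm' {n : ℕ} (hn : 2 ≤ n) :
    (xa 0 * a 1 : QuaternionGroup n) * a 1 ≠ a 1 * (xa 0 * a 1) := by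
  rw [xa_mul_a, xa_mul_a, a_mul_xa]
  intro h
  have h1 : (0 + 1 + 1 : ZMod (2 * n)) = 0 + 1 - 1 := by injection h
  apply quat_two_ne_zero hn
  linear_combination h1

/-- `a 1 ^ m` is not central when `n = 2 * m`, `m ≥ 1` -/
theorem quat_not_comm_pow {n m : ℕ} (hm : 1 ≤ m) (hnm : n = 2 * m) :
    (a 1 : QuaternionGroup n) ^ m * xa 0 ≠ xa 0 * a 1 ^ m := by
  subst hnm
  rw [a_one_pow, a_mul_xa, xa_mul_a]
  intro h
  have h1 : (0 - (m : ZMod (2 * (2 * m)))) = 0 + (m : ZMod (2 * (2 * m))) := by injection h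
  have h2 : ((2 * m : ℕ) : ZMod (2 * (2 * m))) = 0 := by
    push_cast
    linear_combination (-1 : ZMod (2 * (2 * m))) * h1
  rw [ZMod.natCast_eq_zero_iff] at h2
  have := Nat.le_of_dvd (by omega) h2
  omega

theorem quat_rel {n : ℕ} : (xa 0 : QuaternionGroup n) * a 1 * (xa 0)⁻¹ * a 1 = 1 := by
  have h : (a 1 : QuaternionGroup n) * xa 0 * a 1 = xa 0 := by
    rw [a_mul_xa, xa_mul_a]; simp
  calc (xa 0 : QuaternionGroup n) * a 1 * (xa 0)⁻¹ * a 1
      = xa 0 * a 1 * (a 1 * xa 0 * a 1)⁻¹ * a 1 := by rw [h]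
    _ = 1 := by group

/-- `a 1` and `xa 0` generate -/
theorem quat_gen {n : ℕ} [NeZero n] (H : Subgroup (QuaternionGroup n)) (ha : a 1 ∈ H)
    (hx : xa 0 ∈ H) : H = ⊤ := by
  rw [eq_top_iff]
  rintro (i | i) -
  · have : (a i : QuaternionGroup n) = a 1 ^ i.val := by
      rw [a_one_pow, ZMod.natCast_zmod_val]
    rw [this]; exact pow_mem ha _
  · have : (xa i : QuaternionGroup n) = xa 0 * a 1 ^ i.val := by
      rw [a_one_pow, ZMod.natCast_zmod_val, xa_mul_a, zero_add]
    rw [this]; exact mul_mem hx (pow_mem ha _)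

/-- a homomorphism onto `QuaternionGroup n` has the section `quatHom` -/
theorem quat_section {G : Type*} [Group G] {n : ℕ} [NeZero n] (π : G →* QuaternionGroup n)
    (A X : G) (hπA : π A = a 1) (hπX : π X = xa 0) (hn : 0 < n) (hA : A ^ (2 * n) = 1)
    (hX : X * X = A ^ n) (hAX : A * X = X * A⁻¹) :
    ∀ g, π (Cfsg.Agent.Lib.Helper7.quatHom hn A X hA hX hAX g) = g := by
  rintro (i | i)
  · change π (A ^ i.val) = a i
    rw [map_pow, hπA, a_one_pow, ZMod.natCast_zmod_val]
  · change π (X * A ^ i.val) = xa i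
    rw [map_mul, map_pow, hπA, hπX, a_one_pow, ZMod.natCast_zmod_val, xa_mul_a, zero_add]

end quat

end Cfsg.Agent.Lib.Helper61
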