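import Mathlib
import Cfsg.Agent.Lib.Helper61.Basic
import Cfsg.Agent.Lib.Helper61.Conj

/-!
# Groups with a 2-central involution `t`, `C(t) ≅ Z₂ × S₄`, `C(S') = S` (helper61) — part A

Coordinates on `C(t)`, the Sylow 2-subgroup `T = Z₂ × D₈`, `C(z) = T`, `N(T) = T`, and the
fusion of `t` in `T`.
-/

set_option autoImplicit false

namespace Cfsg.Agent.Lib.Helper61.S4Cent

open DihedralGroup
open scoped commutatorElement

universe u

/-- `Z₂ × S₄`. -/
abbrev ZS : Type := Multiplicative (ZMod 2) × Equiv.Perm (Fin 4)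
/-- `Z₂ × D₈`. -/
abbrev QD : Type := Multiplicative (ZMod 2) × DihedralGroup 4

/-- the generator of `Z₂`. -/
def tau : Multiplicative (ZMod 2) := Multiplicative.ofAdd 1

/-- `(0 1 2 3)` -/
def c4 : Equiv.Perm (Fin 4) := ⟨![1, 2, 3, 0], ![3, 0, 1, 2], by decide, by decide⟩
/-- `(0 2)` -/
def s02 : Equiv.Perm (Fin 4) := ⟨![2, 1, 0, 3], ![2, 1, 0, 3], by decide, by decide⟩
/-- `(1 3)` -/
def s13 : Equiv.Perm (Fin 4) := ⟨![0, 3, 2, 1], ![0, 3, 2, 1], by decide, by decide⟩
/-- `(0 2)(1 3)` -/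
def zz : Equiv.Perm (Fin 4) := ⟨![2, 3, 0, 1], ![2, 3, 0, 1], by decide, by decide⟩
/-- `(0 1)(2 3)` -/
def b0 : Equiv.Perm (Fin 4) := ⟨![1, 0, 3, 2], ![1, 0, 3, 2], by decide, by decide⟩

/-- the embedding `D₈ → S₄`. -/
def iotaFun : DihedralGroup 4 → Equiv.Perm (Fin 4)
  | r i => c4 ^ i.val
  | sr i => s02 * c4 ^ i.val

theorem iotaFun_mul : ∀ a b : DihedralGroup 4, iotaFun (a * b) = iotaFun a * iotaFun b := by
  decide

/-- the embedding `D₈ → S₄` as a homomorphism. -/
def iota : DihedralGroup 4 →* Equiv.Perm (Fin 4) := MonoidHom.mk' iotaFun iotaFun_mul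

/-- the embedding `Z₂ × D₈ → Z₂ × S₄`. -/
def jm : QD →* ZS := MonoidHom.prodMap (MonoidHom.id _) iota

theorem jm_inj : ∀ p q : QD, jm p = jm q → p = q := by decide

theorem zs_central : ∀ p : ZS, (∀ q : ZS, p * q = q * p) → p = 1 ∨ p = (tau, 1) := by decide

theorem qd_comm : ∀ p q : QD, ⁅p, q⁆ = 1 ∨ ⁅p, q⁆ = (1, r 2) := by decide

theorem qd_comm_eq : ⁅((1, r 1) : QD), ((1, sr 0) : QD)⁆ = (1, r 2) := by decide

theorem qd_pow_four : ∀ q : QD, q ^ 4 = 1 := by decide

theorem qd_central_z : ∀ q : QD, q * (1, r 2) = (1, r 2) * q := by decide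

theorem qd_central_tz : ∀ q : QD, q * (tau, r 2) = (tau, r 2) * q := by decide

theorem qd_central_t : ∀ q : QD, q * (tau, 1) = (tau, 1) * q := by decide

theorem jm_z : jm (1, r 2) = (1, zz) := by decide

theorem jm_tz : jm (tau, r 2) = (tau, zz) := by decide

theorem jm_t : jm (tau, 1) = (tau, 1) := by decide

/-- every involution of `Z₂ × D₈` is `Z₂ × S₄`-conjugate to one of five representatives. -/
theorem qd_invol : ∀ q : QD, q ≠ 1 → q * q = 1 →
    ∃ w : ZS, w * jm q * w⁻¹ = (tau, 1) ∨ w * jm q * w⁻¹ = (1, zz) ∨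
      w * jm q * w⁻¹ = (tau, zz) ∨ w * jm q * w⁻¹ = (1, s02) ∨ w * jm q * w⁻¹ = (tau, s02) := by
  decide

theorem zs_comm_u : ∀ (x : Multiplicative (ZMod 2)) (p : ZS), p * (x, s02) = (x, s02) * p →
    p = 1 ∨ p = (tau, 1) ∨ p = (1, zz) ∨ p = (tau, zz) ∨ p = (tau, s02) ∨ p = (tau, s13) ∨
      p = (1, s02) ∨ p = (1, s13) := by
  decide

theorem zs_comm_u_sq : ∀ (x : Multiplicative (ZMod 2)) (p : ZS),
    p * (x, s02) = (x, s02) * p → p * p = 1 := by
  decide

theorem zs_conj_s13 : ∀ x : Multiplicative (ZMod 2),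
    ((1, b0) : ZS) * (x, s02) * ((1, b0) : ZS)⁻¹ = (x, s13) := by decide

section coords

variable {G : Type u} [Group G] {t : G}
  (e : ↥(Subgroup.centralizer ({t} : Set G)) ≃* ZS)

/-- coordinates on `C(t)`. -/
def cl (p : ZS) : G := ((e.symm p : ↥(Subgroup.centralizer ({t} : Set G))) : G)

theorem cl_mul (p q : ZS) : cl e (p * q) = cl e p * cl e q := by simp [cl]

theorem cl_one : cl e 1 = 1 := by simp [cl]

theorem cl_inv (p : ZS) : cl e p⁻¹ = (cl e p)⁻¹ := by simp [cl]

theorem cl_inj {p q : ZS} (h : cl e p = cl e q) : p = q := e.symm.injective (Subtype.ext h)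

theorem cl_comm (p : ZS) : cl e p * t = t * cl e p :=
  Subgroup.mem_centralizer_singleton_iff.mp (e.symm p).2

theorem exists_cl {c : G} (hc : c * t = t * c) : ∃ p, c = cl e p :=
  ⟨e ⟨c, Subgroup.mem_centralizer_singleton_iff.mpr hc⟩, by simp [cl]⟩

theorem cl_tau (ht : orderOf t = 2) : cl e (tau, 1) = t := by
  have htc : t ∈ Subgroup.centralizer ({t} : Set G) :=
    Subgroup.mem_centralizer_singleton_iff.mpr rfl
  have h1 : ∀ q : ZS, e ⟨t, htc⟩ * q = q * e ⟨t, htc⟩ := by
    intro q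
    have h2 : (⟨t, htc⟩ : ↥(Subgroup.centralizer ({t} : Set G))) * e.symm q =
        e.symm q * ⟨t, htc⟩ := by
      apply Subtype.ext
      exact (Subgroup.mem_centralizer_singleton_iff.mp (e.symm q).2).symm
    have h3 := congrArg e h2
    simpa using h3
  rcases zs_central _ h1 with h | h
  · exfalso
    have h4 : (⟨t, htc⟩ : ↥(Subgroup.centralizer ({t} : Set G))) = 1 := by
      apply e.injective; rw [h, map_one]
    have h5 : t = 1 := congrArg Subtype.val h4
    rw [h5, orderOf_one] at ht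
    omega
  · rw [← h]; simp [cl]

/-- coordinates on the Sylow 2-subgroup. -/
def el (q : QD) : G := cl e (jm q)

theorem el_mul (p q : QD) : el e (p * q) = el e p * el e q := by
  simp only [el, map_mul, cl_mul]

theorem el_one : el e 1 = 1 := by simp only [el, map_one, cl_one]

theorem el_inv (p : QD) : el e p⁻¹ = (el e p)⁻¹ := by simp only [el, map_inv, cl_inv]

theorem el_inj {p q : QD} (h : el e p = el e q) : p = q := jm_inj _ _ (cl_inj e h)

/-- `el` as a homomorphism. -/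
def elHom : QD →* G where
  toFun := el e
  map_one' := el_one e
  map_mul' := el_mul e

theorem elHom_apply (q : QD) : elHom e q = el e q := rfl

/-- the Sylow 2-subgroup `Z₂ × D₈` of `C(t)`. -/
def Tsub : Subgroup G := (elHom e).range

theorem mem_Tsub {x : G} : x ∈ Tsub e ↔ ∃ q, el e q = x := Iff.rfl

theorem el_mem (q : QD) : el e q ∈ Tsub e := ⟨q, rfl⟩

theorem card_Tsub : Nat.card (Tsub e) = 16 := by
  have hinj : Function.Injective (elHom e) := fun p q h => el_inj e h
  rw [Tsub, Nat.card_congr (MonoidHom.ofInjective hinj).toEquiv.symm, Nat.card_eq_fintype_card]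
  decide

theorem isPGroup_Tsub : IsPGroup 2 (Tsub e) :=
  IsPGroup.of_card (n := 4) (by rw [card_Tsub]; norm_num)

/-- the central involution of the `D₈`. -/
def zel : G := el e (1, r 2)

theorem zel_eq : zel e = cl e (1, zz) := by rw [zel, el, jm_z]

theorem el_comm_z (q : QD) : el e q * zel e = zel e * el e q := by
  rw [zel, ← el_mul, ← el_mul, qd_central_z]

theorem el_tau (ht : orderOf t = 2) : el e (tau, 1) = t := by rw [el, jm_t, cl_tau e ht]

theorem el_comm_t (q : QD) : el e q * t = t * el e q := cl_comm e _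

theorem zel_ne_one : zel e ≠ 1 := by
  intro h
  have := el_inj e (h.trans (el_one e).symm)
  revert this; decide

theorem zel_sq : zel e * zel e = 1 := by
  rw [zel, ← el_mul, ← el_one e]; exact congrArg (el e) (by decide)

theorem orderOf_zel : orderOf (zel e) = 2 :=
  orderOf_eq_prime (by rw [pow_two]; exact zel_sq e) (zel_ne_one e)

/-- conjugacy as an existential. -/
def Cj (x y : G) : Prop := ∃ g : G, g * x * g⁻¹ = y

theorem Cj.symm {x y : G} (h : Cj x y) : Cj y x := by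
  obtain ⟨g, rfl⟩ := h
  exact ⟨g⁻¹, by group⟩

theorem Cj.trans {x y w : G} (h : Cj x y) (h' : Cj y w) : Cj x w := by
  obtain ⟨g, rfl⟩ := h
  obtain ⟨g', rfl⟩ := h'
  exact ⟨g' * g, by group⟩

theorem cj_cl {p p' : ZS} (h : ∃ w : ZS, w * p * w⁻¹ = p') : Cj (cl e p) (cl e p') := by
  obtain ⟨w, rfl⟩ := h
  exact ⟨cl e w, by rw [cl_mul, cl_mul, cl_inv]⟩

theorem card_centralizer_conj (g x : G) :
    Nat.card (Subgroup.centralizer ({g * x * g⁻¹} : Set G)) =
      Nat.card (Subgroup.centralizer ({x} : Set G)) := by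
  refine Nat.card_congr ⟨fun c => ⟨g⁻¹ * c * g, ?_⟩, fun c => ⟨g * c * g⁻¹, ?_⟩, ?_, ?_⟩
  · have h := Subgroup.mem_centralizer_singleton_iff.mp c.2
    rw [Subgroup.mem_centralizer_singleton_iff]
    calc g⁻¹ * c * g * x = g⁻¹ * (c * (g * x * g⁻¹)) * g := by group
      _ = g⁻¹ * ((g * x * g⁻¹) * c) * g := by rw [h]
      _ = x * (g⁻¹ * c * g) := by group
  · have h := Subgroup.mem_centralizer_singleton_iff.mp c.2
    rw [Subgroup.mem_centralizer_singleton_iff]
    calc g * c * g⁻¹ * (g * x * g⁻¹) = g * (c * x) * g⁻¹ := by group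
      _ = g * (x * c) * g⁻¹ := by rw [h]
      _ = g * x * g⁻¹ * (g * c * g⁻¹) := by group
  · intro c; apply Subtype.ext; simp only; group
  · intro c; apply Subtype.ext; simp only; group

theorem invol_of_cj (ht : orderOf t = 2) {q : QD} {g : G} (hq : el e q = g * t * g⁻¹) :
    q ≠ 1 ∧ q * q = 1 := by
  constructor
  · rintro rfl
    rw [el_one] at hq
    have h3 : t = 1 := by
      have h4 : t = g⁻¹ * (g * t * g⁻¹) * g := by group
      rw [h4, ← hq]; group
    rw [h3, orderOf_one] at ht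
    omega
  · apply el_inj e
    rw [el_mul, hq, el_one]
    have h3 : t * t = 1 := by
      rw [← pow_two, ← ht]; exact pow_orderOf_eq_one t
    calc g * t * g⁻¹ * (g * t * g⁻¹) = g * (t * t) * g⁻¹ := by group
      _ = 1 := by rw [h3]; group

theorem card_centralizer_t (e' : ↥(Subgroup.centralizer ({t} : Set G)) ≃* ZS) :
    Nat.card (Subgroup.centralizer ({t} : Set G)) = 48 := by
  rw [Nat.card_congr e'.toEquiv, Nat.card_eq_fintype_card]
  decide

end coords

section facts

variable {G : Type u} [Group G] [Finite G] {t : G}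
  (e : ↥(Subgroup.centralizer ({t} : Set G)) ≃* ZS)
  (ht : orderOf t = 2)
  (h16 : ∀ S : Sylow 2 G, Nat.card (S : Subgroup G) = 16)
  (h2 : ∀ S : Sylow 2 G, Subgroup.centralizer
    ((⁅(S : Subgroup G), (S : Subgroup G)⁆ : Subgroup G) : Set G) = (S : Subgroup G))

include h16 in
theorem exists_sylow : ∃ S : Sylow 2 G, (S : Subgroup G) = Tsub e := by
  obtain ⟨S₀⟩ : Nonempty (Sylow 2 G) := inferInstance
  refine ⟨Sylow.ofCard (Tsub e) ?_, Sylow.coe_ofCard _ _⟩
  rw [card_Tsub, ← h16 S₀, Sylow.card_eq_multiplicity]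

omit [Finite G] in
theorem comm_le : ⁅Tsub e, Tsub e⁆ ≤ Subgroup.zpowers (zel e) := by
  rw [Subgroup.commutator_le]
  rintro _ ⟨p, rfl⟩ _ ⟨q, rfl⟩
  rw [← map_commutatorElement]
  rcases qd_comm p q with h | h
  · rw [h, map_one]; exact one_mem _
  · rw [h]; exact Subgroup.mem_zpowers _

include h16 h2 in
theorem cent_z {x : G} (hx : x * zel e = zel e * x) : x ∈ Tsub e := by
  obtain ⟨S, hS⟩ := exists_sylow e h16
  have h := h2 S
  rw [hS] at h
  rw [← h, Subgroup.mem_centralizer_iff]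
  intro y hy
  obtain ⟨k, rfl⟩ := Subgroup.mem_zpowers_iff.mp (comm_le e hy)
  exact ((Commute.zpow_right (show Commute x (zel e) from hx) k).eq).symm

include h16 h2 in
theorem norm_T {n : G} (hn : ∀ x ∈ Tsub e, n * x * n⁻¹ ∈ Tsub e) : n ∈ Tsub e := by
  obtain ⟨p, hp⟩ := (mem_Tsub e).mp (hn _ (el_mem e (1, r 1)))
  obtain ⟨q, hq⟩ := (mem_Tsub e).mp (hn _ (el_mem e (1, sr 0)))
  have h1 : n * zel e * n⁻¹ = el e ⁅p, q⁆ := by
    have h3 : zel e = ⁅el e (1, r 1), el e (1, sr 0)⁆ := by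
      rw [zel, ← qd_comm_eq]; exact map_commutatorElement (elHom e) _ _
    rw [h3, show el e ⁅p, q⁆ = ⁅el e p, el e q⁆ from map_commutatorElement (elHom e) p q, hp, hq]
    simp only [commutatorElement_def]; group
  apply cent_z e h16 h2
  rcases qd_comm p q with h | h
  · rw [h, el_one] at h1
    exfalso; apply zel_ne_one e
    have h4 : zel e = n⁻¹ * (n * zel e * n⁻¹) * n := by group
    rw [h4, h1]; group
  · rw [h] at h1
    have h4 : n * zel e = (n * zel e * n⁻¹) * n := by group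
    rw [h4, h1]; rfl

include h16 h2 in
theorem centralizer_zel : Subgroup.centralizer ({zel e} : Set G) = Tsub e := by
  ext x
  rw [Subgroup.mem_centralizer_singleton_iff]
  exact ⟨cent_z e h16 h2, fun ⟨q, hq⟩ => hq ▸ el_comm_z e q⟩

include h16 h2 in
/-- `z` is not conjugate to `t`. -/
theorem not_cj_z_t : ¬ Cj (zel e) t := by
  rintro ⟨g, hg⟩
  have h1 := card_centralizer_conj g (zel e)
  rw [hg, card_centralizer_t e, centralizer_zel e h16 h2, card_Tsub] at h1
  omega

include h16 h2 in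
/-- `z` is not conjugate to `tz`. -/
theorem not_cj_z_tz : ¬ Cj (zel e) (el e (tau, r 2)) := by
  rintro ⟨h, hh⟩
  have h1 : ∀ x ∈ Tsub e, h⁻¹ * x * h ∈ Tsub e := by
    intro x hx
    obtain ⟨q, rfl⟩ := (mem_Tsub e).mp hx
    apply cent_z e h16 h2
    have h3 : el e q * el e (tau, r 2) = el e (tau, r 2) * el e q := by
      rw [← el_mul, ← el_mul, qd_central_tz]
    rw [← hh] at h3
    calc h⁻¹ * el e q * h * zel e = h⁻¹ * (el e q * (h * zel e * h⁻¹)) * h := by group
      _ = h⁻¹ * ((h * zel e * h⁻¹) * el e q) * h := by rw [h3]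
      _ = zel e * (h⁻¹ * el e q * h) := by group
  have h4 : h⁻¹ ∈ Tsub e := norm_T e h16 h2 (by intro x hx; simpa using h1 x hx)
  have h5 : h ∈ Tsub e := by simpa using inv_mem h4
  obtain ⟨q, rfl⟩ := (mem_Tsub e).mp h5
  have h6 : el e q * zel e * (el e q)⁻¹ = zel e := by rw [el_comm_z]; group
  rw [h6, zel] at hh
  have h7 := el_inj e hh
  revert h7; decide

include ht h16 h2 in
/-- `t` is not conjugate to `tz` (Burnside). -/
theorem not_cj_t_tz : ¬ Cj t (el e (tau, r 2)) := by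
  rintro ⟨g, hg⟩
  obtain ⟨S, hS⟩ := exists_sylow e h16
  have hK : cj g (Tsub e) ≤ Subgroup.centralizer ({el e (tau, r 2)} : Set G) := by
    intro x hx
    rw [mem_cj] at hx
    obtain ⟨q, hq⟩ := (mem_Tsub e).mp hx
    rw [Subgroup.mem_centralizer_singleton_iff, ← hg]
    have h3 := el_comm_t e q
    rw [hq] at h3
    calc x * (g * t * g⁻¹) = g * ((g⁻¹ * x * g) * t) * g⁻¹ := by group
      _ = g * (t * (g⁻¹ * x * g)) * g⁻¹ := by rw [h3]
      _ = g * t * g⁻¹ * x := by group
  have hU : (S : Subgroup G) ≤ Subgroup.centralizer ({el e (tau, r 2)} : Set G) := by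
    rw [hS]; rintro _ ⟨q, rfl⟩
    rw [Subgroup.mem_centralizer_singleton_iff]
    show el e q * el e (tau, r 2) = el e (tau, r 2) * el e q
    rw [← el_mul, ← el_mul, qd_central_tz]
  have hKp : IsPGroup 2 (cj g (Tsub e)) := (isPGroup_Tsub e).map _
  obtain ⟨n, hn, hn'⟩ := exists_conj_mem_sylow S _ _ hU hK hKp
  have h4 : n⁻¹ * g ∈ Tsub e := by
    apply norm_T e h16 h2
    intro x hx
    have h5 := hn' (g * x * g⁻¹) (conj_mem_cj hx)
    rw [hS] at h5
    have e1 : n⁻¹ * g * x * (n⁻¹ * g)⁻¹ = n⁻¹ * (g * x * g⁻¹) * n := by group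
    rw [e1]; exact h5
  obtain ⟨q, hq⟩ := (mem_Tsub e).mp h4
  have h5 := el_comm_t e q
  rw [hq] at h5
  have h6 : n * el e (tau, r 2) = el e (tau, r 2) * n :=
    Subgroup.mem_centralizer_singleton_iff.mp hn
  have h7 : t = el e (tau, r 2) := by
    have h8 : n⁻¹ * el e (tau, r 2) * n = t := by
      rw [← hg]
      calc n⁻¹ * (g * t * g⁻¹) * n = (n⁻¹ * g * t) * (n⁻¹ * g)⁻¹ := by group
        _ = (t * (n⁻¹ * g)) * (n⁻¹ * g)⁻¹ := by rw [h5]
        _ = t := by group
    have h10 : n⁻¹ * el e (tau, r 2) * n = el e (tau, r 2) := by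
      calc n⁻¹ * el e (tau, r 2) * n = n⁻¹ * (el e (tau, r 2) * n) := by group
        _ = n⁻¹ * (n * el e (tau, r 2)) := by rw [h6]
        _ = el e (tau, r 2) := by group
    exact h8.symm.trans h10
  have h9 := el_inj e ((el_tau e ht).trans h7)
  revert h9; decide

theorem z2_cases : ∀ x y : Multiplicative (ZMod 2), y = x ∨ y = x * tau := by decide

include ht h16 h2 in
/-- if `t` is conjugate to `(x, (0 2))` then `z` is conjugate to `(x τ, (0 2))`. -/
theorem fusion (x : Multiplicative (ZMod 2)) (h : Cj t (cl e (x, s02))) :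
    Cj (zel e) (cl e (x * tau, s02)) := by
  obtain ⟨g, hg⟩ := h
  obtain ⟨S, hS⟩ := exists_sylow e h16
  have htt : cl e (tau, 1) = t := cl_tau e ht
  -- the subgroup `E = C(t) ∩ C(u)`
  have hE2 : ∀ k ∈ Subgroup.centralizer ({t} : Set G) ⊓
      Subgroup.centralizer ({cl e (x, s02)} : Set G), k * k = 1 := by
    rintro k ⟨hk1, hk2⟩
    obtain ⟨p, rfl⟩ := exists_cl e (Subgroup.mem_centralizer_singleton_iff.mp hk1)
    have h3 := Subgroup.mem_centralizer_singleton_iff.mp hk2
    rw [← cl_mul, ← cl_mul] at h3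
    rw [← cl_mul, zs_comm_u_sq x p (cl_inj e h3), cl_one]
  have hEp : IsPGroup 2 ↥(Subgroup.centralizer ({t} : Set G) ⊓
      Subgroup.centralizer ({cl e (x, s02)} : Set G)) := by
    intro k
    refine ⟨1, ?_⟩
    apply Subtype.ext
    rw [pow_one, pow_two]
    exact hE2 k k.2
  have hUN : ((g • S : Sylow 2 G) : Subgroup G) ≤
      Subgroup.centralizer ({cl e (x, s02)} : Set G) := by
    intro y hy
    rw [sylow_smul_eq_cj, hS, mem_cj] at hy
    obtain ⟨q, hq⟩ := (mem_Tsub e).mp hy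
    rw [Subgroup.mem_centralizer_singleton_iff, ← hg]
    have h3 := el_comm_t e q
    rw [hq] at h3
    calc y * (g * t * g⁻¹) = g * ((g⁻¹ * y * g) * t) * g⁻¹ := by group
      _ = g * (t * (g⁻¹ * y * g)) * g⁻¹ := by rw [h3]
      _ = g * t * g⁻¹ * y := by group
  obtain ⟨n, hn, hn'⟩ := exists_conj_mem_sylow (g • S) _ _ hUN inf_le_right hEp
  have hnu : n * cl e (x, s02) = cl e (x, s02) * n :=
    Subgroup.mem_centralizer_singleton_iff.mp hn
  -- `g' = n g` conjugates `t` to `u`, and `E ≤ g' T g'⁻¹`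
  have hg' : (n * g) * t * (n * g)⁻¹ = cl e (x, s02) := by
    calc (n * g) * t * (n * g)⁻¹ = n * (g * t * g⁻¹) * n⁻¹ := by group
      _ = n * cl e (x, s02) * n⁻¹ := by rw [hg]
      _ = cl e (x, s02) * n * n⁻¹ := by rw [hnu]
      _ = cl e (x, s02) := by group
  have hE : ∀ k ∈ Subgroup.centralizer ({t} : Set G) ⊓
      Subgroup.centralizer ({cl e (x, s02)} : Set G),
      k * ((n * g) * zel e * (n * g)⁻¹) = ((n * g) * zel e * (n * g)⁻¹) * k := by
    intro k hk
    have h3 := hn' k hk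
    rw [sylow_smul_eq_cj, hS, mem_cj] at h3
    obtain ⟨q, hq⟩ := (mem_Tsub e).mp h3
    have h4 := el_comm_z e q
    rw [hq] at h4
    calc k * ((n * g) * zel e * (n * g)⁻¹)
        = (n * g) * ((g⁻¹ * (n⁻¹ * k * n) * g) * zel e) * (n * g)⁻¹ := by group
      _ = (n * g) * (zel e * (g⁻¹ * (n⁻¹ * k * n) * g)) * (n * g)⁻¹ := by rw [h4]
      _ = ((n * g) * zel e * (n * g)⁻¹) * k := by group
  have htE : t ∈ Subgroup.centralizer ({t} : Set G) ⊓
      Subgroup.centralizer ({cl e (x, s02)} : Set G) :=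
    ⟨Subgroup.mem_centralizer_singleton_iff.mpr rfl,
      Subgroup.mem_centralizer_singleton_iff.mpr (cl_comm e _).symm⟩
  have huE : cl e (x, s02) ∈ Subgroup.centralizer ({t} : Set G) ⊓
      Subgroup.centralizer ({cl e (x, s02)} : Set G) :=
    ⟨Subgroup.mem_centralizer_singleton_iff.mpr (cl_comm e _),
      Subgroup.mem_centralizer_singleton_iff.mpr rfl⟩
  have h1 := hE t htE
  have h2' := hE _ huE
  obtain ⟨p, hp⟩ := exists_cl e h1.symm
  rw [hp, ← cl_mul, ← cl_mul] at h2'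
  have hz1 : Cj (zel e) (cl e p) := ⟨n * g, hp⟩
  have hcases := zs_comm_u x p (cl_inj e h2').symm
  -- conjugates of `u` are conjugates of `t`, hence not of `z`
  have key : ∀ (y : Multiplicative (ZMod 2)) (σ : Equiv.Perm (Fin 4)), σ = s02 ∨ σ = s13 →
      p = (y, σ) → Cj (zel e) (cl e (x * tau, s02)) := by
    intro y σ hσ hpy
    have hc : ∀ w : Multiplicative (ZMod 2), Cj (cl e (w, σ)) (cl e (w, s02)) := by
      intro w
      rcases hσ with rfl | rfl
      · exact ⟨1, by group⟩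
      · exact (cj_cl e ⟨(1, b0), zs_conj_s13 w⟩).symm
    rcases z2_cases x y with rfl | rfl
    · exfalso
      apply not_cj_z_t e h16 h2
      rw [hpy] at hz1
      exact (hz1.trans (hc y)).trans (Cj.symm ⟨g, hg⟩)
    · rw [hpy] at hz1
      exact hz1.trans (hc _)
  rcases hcases with h | h | h | h | h | h | h | h
  · exfalso
    rw [h, cl_one] at hp
    apply zel_ne_one e
    have h4 : zel e = (n * g)⁻¹ * ((n * g) * zel e * (n * g)⁻¹) * (n * g) := by group
    rw [h4, hp]; group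
  · exfalso
    apply not_cj_z_t e h16 h2
    rw [h, htt] at hz1
    exact hz1
  · exfalso
    rw [h, ← zel_eq] at hp
    have h4 : (n * g) * zel e = zel e * (n * g) := by
      calc (n * g) * zel e = ((n * g) * zel e * (n * g)⁻¹) * (n * g) := by group
        _ = zel e * (n * g) := by rw [hp]
    obtain ⟨q, hq⟩ := (mem_Tsub e).mp (cent_z e h16 h2 h4)
    have h5 := el_comm_t e q
    rw [hq] at h5
    have h6 : (n * g) * t * (n * g)⁻¹ = t := by rw [h5]; group
    have h7 := cl_inj e (htt.trans (h6.symm.trans hg'))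
    have h8 : ∀ y : Multiplicative (ZMod 2), ((tau, 1) : ZS) ≠ (y, s02) := by decide
    exact h8 x h7
  · exfalso
    apply not_cj_z_tz e h16 h2
    rw [h, ← jm_tz] at hz1
    exact hz1
  · exact key tau s02 (Or.inl rfl) h
  · exact key tau s13 (Or.inr rfl) h
  · exact key 1 s02 (Or.inl rfl) h
  · exact key 1 s13 (Or.inr rfl) h

end facts

end Cfsg.Agent.Lib.Helper61.S4Cent
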