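import Mathlib
import Cfsg.Agent.Lib.Helper61.S4CentA
import Cfsg.Agent.S0215
import Cfsg.Agent.Lib.Helper20.D8Str

/-!
# Groups with a 2-central involution `t`, `C(t) ≅ Z₂ × S₄`, `C(S') = S` (helper61) — part B

The case where `t` is isolated: Glauberman's `Z*`-theorem gives `G = C(t)`.
-/

set_option autoImplicit false

namespace Cfsg.Agent.Lib.Helper61.S4Cent

open DihedralGroup
open scoped commutatorElement

universe u

theorem perm4_a : ∀ a b : Equiv.Perm (Fin 4), Equiv.Perm.sign a = 1 → Equiv.Perm.sign b = 1 →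
    ⁅a, b⁆ * (Equiv.swap 0 1 * Equiv.swap 2 3) = (Equiv.swap 0 1 * Equiv.swap 2 3) * ⁅a, b⁆ := by
  decide +kernel

theorem perm4_b : ∀ a b : Equiv.Perm (Fin 4), Equiv.Perm.sign a = 1 →
    a * (Equiv.swap 0 1 * Equiv.swap 2 3) = (Equiv.swap 0 1 * Equiv.swap 2 3) * a →
    Equiv.Perm.sign b = 1 →
    b * (Equiv.swap 0 1 * Equiv.swap 2 3) = (Equiv.swap 0 1 * Equiv.swap 2 3) * b →
    a * b = b * a := by
  decide +kernel

/-- `S₄` is solvable (the proof of `Cfsg.Agent.S4203.solvable_perm4`). -/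
theorem solvable_perm4 : Group.IsSolvable (Equiv.Perm (Fin 4)) := by
  let τ : Equiv.Perm (Fin 4) := Equiv.swap 0 1 * Equiv.swap 2 3
  let A : Subgroup (Equiv.Perm (Fin 4)) := (Equiv.Perm.sign (α := Fin 4)).ker
  let V : Subgroup (Equiv.Perm (Fin 4)) := A ⊓ Subgroup.centralizer {τ}
  refine ⟨⟨3, ?_⟩⟩
  have h1 : derivedSeries (Equiv.Perm (Fin 4)) 1 ≤ A := by
    rw [derivedSeries_one]
    exact Abelianization.commutator_subset_ker _
  have h2 : derivedSeries (Equiv.Perm (Fin 4)) 2 ≤ V := by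
    rw [derivedSeries_succ]
    refine (Subgroup.commutator_mono h1 h1).trans ?_
    rw [Subgroup.commutator_le]
    intro a ha b hb
    refine ⟨?_, ?_⟩
    · exact Subgroup.commutator_le_self A (Subgroup.commutator_mem_commutator ha hb)
    · show ⁅a, b⁆ ∈ Subgroup.centralizer {τ}
      rw [Subgroup.mem_centralizer_iff]
      intro h hh
      rw [Set.mem_singleton_iff] at hh
      subst hh
      exact (perm4_a a b (MonoidHom.mem_ker.mp ha) (MonoidHom.mem_ker.mp hb)).symm
  rw [derivedSeries_succ, eq_bot_iff]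
  refine (Subgroup.commutator_mono h2 h2).trans ?_
  rw [Subgroup.commutator_le]
  intro a ha b hb
  rw [Subgroup.mem_bot, commutatorElement_eq_one_iff_mul_comm]
  exact perm4_b a b (MonoidHom.mem_ker.mp ha.1)
    ((Subgroup.mem_centralizer_iff.mp ha.2 τ rfl).symm) (MonoidHom.mem_ker.mp hb.1)
    ((Subgroup.mem_centralizer_iff.mp hb.2 τ rfl).symm)

theorem solvable_zs : Group.IsSolvable ZS := by
  have := solvable_perm4
  infer_instance

theorem qd_invol_t : ∀ (q : QD) (w : ZS), w * jm q * w⁻¹ = (tau, 1) → q = (tau, 1) := by decide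

theorem zs_conj_b : ∃ w : ZS, w * (1, zz) * w⁻¹ = jm (1, sr 1) := by decide

theorem zs_conj_zb : ∃ w : ZS, w * (1, zz) * w⁻¹ = jm (1, sr 3) := by decide

theorem qd_zb : ((1, r 2) : QD) * (1, sr 1) = (1, sr 3) := by decide

section caseI

variable {G : Type u} [Group G] [Finite G] {t : G}
  (e : ↥(Subgroup.centralizer ({t} : Set G)) ≃* ZS)
  (ht : orderOf t = 2)
  (h16 : ∀ S : Sylow 2 G, Nat.card (S : Subgroup G) = 16)
  (h2 : ∀ S : Sylow 2 G, Subgroup.centralizer
    ((⁅(S : Subgroup G), (S : Subgroup G)⁆ : Subgroup G) : Set G) = (S : Subgroup G))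

include h16 h2 in
/-- elements centralizing a conjugate of `z` have order dividing 4. -/
theorem pow_four_of_cj {y : G} (hy : Cj (zel e) y) {c : G} (hc : c * y = y * c) :
    orderOf c ∣ 8 := by
  obtain ⟨g, rfl⟩ := hy
  have h1 : (g⁻¹ * c * g) * zel e = zel e * (g⁻¹ * c * g) := by
    calc (g⁻¹ * c * g) * zel e = g⁻¹ * (c * (g * zel e * g⁻¹)) * g := by group
      _ = g⁻¹ * ((g * zel e * g⁻¹) * c) * g := by rw [hc]
      _ = zel e * (g⁻¹ * c * g) := by group
  obtain ⟨q, hq⟩ := (mem_Tsub e).mp (cent_z e h16 h2 h1)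
  have h3 : (g⁻¹ * c * g) ^ 4 = 1 := by
    have h4 : el e q ^ 4 = elHom e (q ^ 4) := (map_pow (elHom e) q 4).symm
    rw [← hq, h4, qd_pow_four, map_one]
  have h4 : c ^ 4 = 1 := by
    have h5 : c = g * (g⁻¹ * c * g) * g⁻¹ := by group
    rw [h5, conj_pow, h3]; group
  exact (orderOf_dvd_of_pow_eq_one h4).trans (by norm_num)

include ht h16 h2 in
/-- if `t` is isolated then `G = C(t)`. -/
theorem caseI (hA : ¬ Cj t (cl e (1, s02))) (hB : ¬ Cj t (cl e (tau, s02))) :
    Subgroup.centralizer ({t} : Set G) = ⊤ := by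
  obtain ⟨S, hS⟩ := exists_sylow e h16
  have htt := el_tau e ht
  have htS : t ∈ S := by
    show t ∈ (S : Subgroup G)
    rw [hS]; exact ⟨(tau, 1), htt⟩
  have hiso : ∀ g : G, g * t * g⁻¹ ∈ S → g * t * g⁻¹ = t := by
    intro g hg
    have hg' : g * t * g⁻¹ ∈ (S : Subgroup G) := hg
    rw [hS] at hg'
    obtain ⟨q, hq⟩ := (mem_Tsub e).mp hg'
    have hq1 : q ≠ 1 := by
      rintro rfl
      rw [el_one] at hq
      have h3 : t = 1 := by
        have h4 : t = g⁻¹ * (g * t * g⁻¹) * g := by group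
        rw [h4, ← hq]; group
      rw [h3, orderOf_one] at ht
      omega
    have hq2 : q * q = 1 := by
      apply el_inj e
      rw [el_mul, hq, el_one]
      have h3 : t * t = 1 := by
        rw [← pow_two, ← ht]; exact pow_orderOf_eq_one t
      calc g * t * g⁻¹ * (g * t * g⁻¹) = g * (t * t) * g⁻¹ := by group
        _ = 1 := by rw [h3]; group
    obtain ⟨w, hw⟩ := qd_invol q hq1 hq2
    have hc : Cj t (cl e (w * jm q * w⁻¹)) :=
      Cj.trans ⟨g, hq.symm⟩ (cj_cl e ⟨w, rfl⟩)
    rcases hw with h | h | h | h | h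
    · rw [← hq, qd_invol_t q w h, htt]
    · exfalso
      rw [h, ← zel_eq] at hc
      exact not_cj_z_t e h16 h2 hc.symm
    · exfalso
      rw [h, ← jm_tz] at hc
      exact not_cj_t_tz e ht h16 h2 hc
    · exfalso
      rw [h] at hc
      exact hA hc
    · exfalso
      rw [h] at hc
      exact hB hc
  obtain ⟨N, hNn, hNodd, hN⟩ := Cfsg.Agent.S0215.result S t ht htS hiso
  have hodd : ¬ 2 ∣ Nat.card N := fun h => (Nat.not_even_iff_odd.mpr hNodd) (even_iff_two_dvd.mpr h)
  have hNtriv : ∀ n ∈ N, n = 1 := by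
    intro n hn
    have hz2 := zel_sq e
    have hb2 : el e (1, sr 1) * el e (1, sr 1) = 1 := by
      rw [← el_mul, ← el_one e]; exact congrArg (el e) (by decide)
    have hzb2 : el e (1, sr 3) * el e (1, sr 3) = 1 := by
      rw [← el_mul, ← el_one e]; exact congrArg (el e) (by decide)
    have hcb : Cj (zel e) (el e (1, sr 1)) := by
      rw [zel_eq]; exact cj_cl e zs_conj_b
    have hczb : Cj (zel e) (el e (1, sr 3)) := by
      rw [zel_eq]; exact cj_cl e zs_conj_zb
    have i1 := Cfsg.Agent.Lib.Helper20.d8_invert (zel e) hz2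
      (fun c hc => pow_four_of_cj e h16 h2 ⟨1, by group⟩ hc) N hodd n hn
    have i2 := Cfsg.Agent.Lib.Helper20.d8_invert (el e (1, sr 1)) hb2
      (fun c hc => pow_four_of_cj e h16 h2 hcb hc) N hodd n hn
    have i3 := Cfsg.Agent.Lib.Helper20.d8_invert (el e (1, sr 3)) hzb2
      (fun c hc => pow_four_of_cj e h16 h2 hczb hc) N hodd n hn
    have hzb : el e (1, sr 3) = zel e * el e (1, sr 1) := by
      rw [zel, ← el_mul, qd_zb]
    have h5 : n⁻¹ = n := by
      calc n⁻¹ = el e (1, sr 3) * n * (el e (1, sr 3))⁻¹ := i3.symm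
        _ = zel e * (el e (1, sr 1) * n * (el e (1, sr 1))⁻¹) * (zel e)⁻¹ := by rw [hzb]; group
        _ = zel e * n⁻¹ * (zel e)⁻¹ := by rw [i2]
        _ = (zel e * n * (zel e)⁻¹)⁻¹ := by group
        _ = n := by rw [i1, inv_inv]
    have h6 : n ^ 2 = 1 := by
      rw [pow_two]
      calc n * n = n⁻¹ * n := by rw [h5]
        _ = 1 := by group
    have h7 : orderOf n ∣ 2 := orderOf_dvd_of_pow_eq_one h6
    have h8 : orderOf n ∣ Nat.card N := Subgroup.orderOf_dvd_natCard N hn
    have h9 : orderOf n = 1 := by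
      rcases (Nat.dvd_prime Nat.prime_two).mp h7 with h | h
      · exact h
      · exfalso; rw [h] at h8; exact hodd h8
    exact orderOf_eq_one_iff.mp h9
  rw [eq_top_iff]
  intro g _
  rw [Subgroup.mem_centralizer_singleton_iff]
  have h3 := hNtriv _ (hN g)
  calc g * t = (t * g * t⁻¹ * g⁻¹)⁻¹ * (t * g) := by group
    _ = t * g := by rw [h3]; group

omit [Finite G] in
include e in
/-- `G = C(t)` is solvable. -/
theorem solvable_of_top (h : Subgroup.centralizer ({t} : Set G) = ⊤) : Group.IsSolvable G := by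
  have := solvable_zs
  let f : G →* ZS := e.toMonoidHom.comp
    ((MulEquiv.subgroupCongr h.symm).toMonoidHom.comp (Subgroup.topEquiv (G := G)).symm.toMonoidHom)
  have hf : Function.Injective f := by
    intro a b hab
    have h1 := e.injective hab
    have h2 := (MulEquiv.subgroupCongr h.symm).injective h1
    exact (Subgroup.topEquiv (G := G)).symm.injective h2
  exact Group.isSolvable_of_isSolvable_injective hf

end caseI

end Cfsg.Agent.Lib.Helper61.S4Cent
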