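import Mathlib
import Cfsg.Agent.Lib.Helper61.S4CentA
import Cfsg.Agent.S0111
import Cfsg.Agent.Lib.Helper20.D8Fin
import Cfsg.Agent.Lib.Helper6.PSLCard

/-!
# Groups with a 2-central involution `t`, `C(t) ≅ Z₂ × S₄`, `C(S') = S` (helper61) — part C

The case where `t` is conjugate to a "transposition" `a` of `C(t)` (and not to `ta`):
Thompson transfer gives a normal subgroup `M` of index 2 with `C_M(z) ≅ D₈` and full fusion, so
`M` is simple and `≅ SL₃(2)` or `A₆`; the first is impossible.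
-/

set_option autoImplicit false

namespace Cfsg.Agent.Lib.Helper61.S4Cent

open DihedralGroup
open scoped commutatorElement

universe u

/-- the character of `D₈` with kernel the rotations. -/
def chiD : DihedralGroup 4 → Multiplicative (ZMod 2)
  | r _ => 1
  | sr _ => tau

theorem qsub_mul : ∀ a b : QD, a.1 = chiD a.2 → b.1 = chiD b.2 → (a * b).1 = chiD (a * b).2 := by
  decide

theorem qsub_inv : ∀ a : QD, a.1 = chiD a.2 → (a⁻¹).1 = chiD (a⁻¹).2 := by decide

/-- the maximal subgroup `⟨r, ta⟩` of `Z₂ × D₈`. -/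
def Qsub : Subgroup QD where
  carrier := {q | q.1 = chiD q.2}
  mul_mem' := fun {a b} ha hb => qsub_mul a b ha hb
  one_mem' := by decide
  inv_mem' := fun {a} ha => qsub_inv a ha

theorem card_Qsub : Nat.card Qsub = 8 := by
  show Nat.card {q : QD // q.1 = chiD q.2} = 8
  rw [Nat.card_eq_fintype_card]
  decide

theorem qsub_t : ¬ ((tau, 1) : QD).1 = chiD ((tau, 1) : QD).2 := by decide

theorem qsub_invol : ∀ q : QD, q.1 = chiD q.2 → q ≠ 1 → q * q = 1 →
    ∃ w : ZS, w * jm q * w⁻¹ = (1, zz) ∨ w * jm q * w⁻¹ = (tau, zz) ∨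
      w * jm q * w⁻¹ = (tau, s02) := by
  decide

/-- membership in `M` for elements of `C(t)`. -/
def good (p : ZS) : Prop := (p.1 = 1 ↔ Equiv.Perm.sign p.2 = 1)

instance : DecidablePred good :=
  fun p => inferInstanceAs (Decidable (p.1 = 1 ↔ Equiv.Perm.sign p.2 = 1))

theorem perm4_sq : ∀ σ : Equiv.Perm (Fin 4), Equiv.Perm.sign σ = 1 →
    ∃ α : Equiv.Perm (Fin 4), σ = α * α := by decide

theorem perm4_odd : ∀ σ : Equiv.Perm (Fin 4), Equiv.Perm.sign σ ≠ 1 →
    Equiv.Perm.sign (s02 * σ) = 1 := by decide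

theorem s02_sq : s02 * s02 = 1 := by decide

theorem z2_cases' : ∀ x : Multiplicative (ZMod 2), x = 1 ∨ x = tau := by decide

theorem tau_ne_one : tau ≠ 1 := by decide

/-- the complement `D₈` of `⟨t⟩` in `Z₂ × D₈` lying in `M`. -/
def mFun (d : DihedralGroup 4) : QD := (if Equiv.Perm.sign (iota d) = 1 then 1 else tau, d)

theorem mFun_mul : ∀ a b : DihedralGroup 4, mFun (a * b) = mFun a * mFun b := by decide

theorem mFun_one : mFun 1 = 1 := by decide

theorem mFun_good : ∀ d : DihedralGroup 4, good (jm (mFun d)) := by decide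

theorem good_mFun : ∀ q : QD, good (jm q) → q = mFun q.2 := by decide

theorem mFun_inj : ∀ a b : DihedralGroup 4, mFun a = mFun b → a = b := by decide

theorem mFun_sr0 : jm (mFun (sr 0)) = (tau, s02) := by decide

theorem mFun_sr1 : jm (mFun (sr 1)) = (1, b0) := by decide

theorem zs_conj_b' : ∃ w : ZS, w * (1, zz) * w⁻¹ = (1, b0) := by decide

theorem good_zz : good (1, zz) := by decide

theorem good_ta : good (tau, s02) := by decide

theorem zs_ta : ((tau, 1) : ZS) * (1, s02) = (tau, s02) := by decide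

theorem zs_ta_ne : ((tau, s02) : ZS) ≠ 1 := by decide

/-- seven conjugates of `t` inside `C(t)`. -/
def tconj : Fin 7 → ZS :=
  ![(tau, 1), (1, Equiv.swap 0 1), (1, Equiv.swap 0 2), (1, Equiv.swap 0 3),
    (1, Equiv.swap 1 2), (1, Equiv.swap 1 3), (1, Equiv.swap 2 3)]

theorem tconj_inj : ∀ i j : Fin 7, tconj i = tconj j → i = j := by decide

theorem tconj_conj : ∀ i : Fin 7, tconj i = (tau, 1) ∨ ∃ w : ZS, w * (1, s02) * w⁻¹ = tconj i := by
  decide

theorem card_sl32 : Nat.card (Matrix.SpecialLinearGroup (Fin 3) (ZMod 2)) = 168 := by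
  have h := Cfsg.Agent.Lib.Helper6.card_sl (F := ZMod 2) (q := 2) (ZMod.card 2) 3 (by norm_num)
  rw [Fin.prod_univ_three] at h
  simp only [Fin.val_zero, Fin.val_one, Fin.val_two] at h
  have h' : (2 - 1) * Nat.card (Matrix.SpecialLinearGroup (Fin 3) (ZMod 2)) = 168 := h
  omega

section caseII

variable {G : Type u} [Group G] [Finite G] {t : G}
  (e : ↥(Subgroup.centralizer ({t} : Set G)) ≃* ZS)
  (ht : orderOf t = 2)
  (h16 : ∀ S : Sylow 2 G, Nat.card (S : Subgroup G) = 16)
  (h2 : ∀ S : Sylow 2 G, Subgroup.centralizer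
    ((⁅(S : Subgroup G), (S : Subgroup G)⁆ : Subgroup G) : Set G) = (S : Subgroup G))

include ht h16 h2 in
/-- Thompson transfer: a normal subgroup of index 2 avoiding `t`. -/
theorem exists_M (hB : ¬ Cj t (cl e (tau, s02))) :
    ∃ M : Subgroup G, M.Normal ∧ M.index = 2 ∧ t ∉ M := by
  obtain ⟨S, hS⟩ := exists_sylow e h16
  have htt := el_tau e ht
  have hQP : Qsub.map (elHom e) ≤ (S : Subgroup G) := by
    rw [hS]; exact Subgroup.map_le_range _ _
  have hQi : (Qsub.map (elHom e)).relIndex (S : Subgroup G) = 2 := by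
    rw [hS, Tsub, MonoidHom.range_eq_map,
      Subgroup.relIndex_map_map_of_injective _ _ (fun p q h => el_inj e h),
      Subgroup.relIndex_top_right]
    have h3 := Qsub.card_mul_index
    rw [card_Qsub, Nat.card_eq_fintype_card (α := QD)] at h3
    have h4 : Fintype.card QD = 16 := by decide
    omega
  have htP : t ∈ (S : Subgroup G) := by rw [hS]; exact ⟨(tau, 1), htt⟩
  have htQ : t ∉ Qsub.map (elHom e) := by
    rintro ⟨q, hq, hq'⟩
    have h3 : q = (tau, 1) := el_inj e (hq'.trans htt.symm)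
    subst h3
    exact qsub_t hq
  rcases Cfsg.Agent.S0111.result S _ hQP hQi t ht htP htQ with h | ⟨g, q, hq, hq'⟩
  · exact h
  · exfalso
    have hq'' : el e q = g * t * g⁻¹ := hq'
    obtain ⟨hq1, hq2⟩ := invol_of_cj e ht hq''
    obtain ⟨w, hw⟩ := qsub_invol q hq hq1 hq2
    have hc : Cj t (cl e (w * jm q * w⁻¹)) :=
      Cj.trans ⟨g, hq''.symm⟩ (cj_cl e ⟨w, rfl⟩)
    rcases hw with h | h | h
    · rw [h, ← zel_eq] at hc
      exact not_cj_z_t e h16 h2 hc.symm
    · rw [h, ← jm_tz] at hc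
      exact not_cj_t_tz e ht h16 h2 hc
    · rw [h] at hc
      exact hB hc

variable (M : Subgroup G) (hM2 : M.index = 2) (htM : t ∉ M)

omit [Finite G] in
include ht hM2 htM in
/-- membership in `M` of the elements of `C(t)`. -/
theorem cl_mem_M (haM : cl e (1, s02) ∉ M) (p : ZS) : cl e p ∈ M ↔ good p := by
  obtain ⟨x, σ⟩ := p
  have hsq : ∀ α : Equiv.Perm (Fin 4), cl e (1, α * α) ∈ M := by
    intro α
    have h3 : ((1, α * α) : ZS) = (1, α) * (1, α) := by
      rw [Prod.mk_mul_mk, one_mul]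
    rw [h3, cl_mul]
    exact Subgroup.mul_self_mem_of_index_two hM2 _
  have h1 : cl e (1, σ) ∈ M ↔ Equiv.Perm.sign σ = 1 := by
    constructor
    · intro h
      by_contra hs
      obtain ⟨α, hα⟩ := perm4_sq _ (perm4_odd σ hs)
      have h4 : cl e (1, s02 * σ) ∈ M := by rw [hα]; exact hsq α
      have h5 : cl e (1, σ) = cl e (1, s02) * cl e (1, s02 * σ) := by
        rw [← cl_mul, Prod.mk_mul_mk, one_mul, ← mul_assoc, s02_sq, one_mul]
      rw [h5, Subgroup.mul_mem_iff_of_index_two hM2] at h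
      exact haM (h.mpr h4)
    · intro hs
      obtain ⟨α, hα⟩ := perm4_sq _ hs
      rw [hα]; exact hsq α
  have h2' : cl e (x, 1) ∈ M ↔ x = 1 := by
    rcases z2_cases' x with rfl | rfl
    · constructor
      · intro _; rfl
      · intro _
        have h3 : cl e ((1, 1) : ZS) = 1 := cl_one e
        rw [h3]; exact one_mem M
    · rw [cl_tau e ht]
      constructor
      · intro h; exact absurd h htM
      · intro h; exact absurd h tau_ne_one
  have h3 : cl e (x, σ) = cl e (x, 1) * cl e (1, σ) := by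
    rw [← cl_mul, Prod.mk_mul_mk, mul_one, one_mul]
  rw [h3, Subgroup.mul_mem_iff_of_index_two hM2, h2', h1]
  rfl

include ht h16 h2 hM2 htM in
/-- `M` is simple, isomorphic to `SL₃(2)` or `A₆`. -/
theorem caseII_simple (hmem : ∀ p : ZS, cl e p ∈ M ↔ good p) (hA : Cj t (cl e (1, s02))) :
    IsSimpleGroup M ∧ (Nonempty (M ≃* Matrix.SpecialLinearGroup (Fin 3) (ZMod 2)) ∨
      Nonempty (M ≃* alternatingGroup (Fin 6))) := by
  have hzM : zel e ∈ M := by rw [zel_eq, hmem]; exact good_zz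
  have hz₀2 : orderOf (⟨zel e, hzM⟩ : M) = 2 := by
    rw [← Subgroup.orderOf_coe]; exact orderOf_zel e
  let m'' : DihedralGroup 4 →* ↥(Subgroup.centralizer ({(⟨zel e, hzM⟩ : M)} : Set ↥M)) :=
    { toFun := fun d => ⟨⟨el e (mFun d), (hmem _).mpr (mFun_good d)⟩, by
        rw [Subgroup.mem_centralizer_singleton_iff]
        apply Subtype.ext
        exact el_comm_z e _⟩
      map_one' := by
        apply Subtype.ext; apply Subtype.ext
        show el e (mFun 1) = 1
        rw [mFun_one, el_one]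
      map_mul' := fun a b => by
        apply Subtype.ext; apply Subtype.ext
        show el e (mFun (a * b)) = el e (mFun a) * el e (mFun b)
        rw [mFun_mul, el_mul] }
  have hm'' : ∀ d, (((m'' d : ↥(Subgroup.centralizer ({(⟨zel e, hzM⟩ : M)} : Set ↥M))) : M) : G) =
      el e (mFun d) := fun d => rfl
  have hbij : Function.Bijective m'' := by
    constructor
    · intro a b hab
      have h3 : el e (mFun a) = el e (mFun b) := by
        rw [← hm'', ← hm'', hab]
      exact mFun_inj a b (el_inj e h3)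
    · intro c
      have h3 : ((c : M) : G) * zel e = zel e * ((c : M) : G) := by
        have h4 := Subgroup.mem_centralizer_singleton_iff.mp c.2
        exact congrArg (fun v : M => (v : G)) h4
      obtain ⟨q, hq⟩ := (mem_Tsub e).mp (cent_z e h16 h2 h3)
      have h4 : good (jm q) := by
        rw [← hmem]
        show el e q ∈ M
        rw [hq]; exact (c : M).2
      refine ⟨q.2, ?_⟩
      apply Subtype.ext; apply Subtype.ext
      rw [hm'', ← good_mFun q h4, hq]
  let e₀ : ↥(Subgroup.centralizer ({(⟨zel e, hzM⟩ : M)} : Set ↥M)) ≃* DihedralGroup 4 :=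
    (MulEquiv.ofBijective m'' hbij).symm
  have he₀ : ∀ d, (((e₀.symm d : ↥(Subgroup.centralizer ({(⟨zel e, hzM⟩ : M)} : Set ↥M))) : M) : G)
      = el e (mFun d) := fun d => rfl
  have hconjM : ∀ y : G, Cj (zel e) y →
      ∃ g : M, ((g * (⟨zel e, hzM⟩ : M) * g⁻¹ : M) : G) = y := by
    rintro y ⟨g, rfl⟩
    by_cases hg : g ∈ M
    · exact ⟨⟨g, hg⟩, rfl⟩
    · have hgt : g * t ∈ M := by
        rw [Subgroup.mul_mem_iff_of_index_two hM2]
        exact ⟨fun h => absurd h hg, fun h => absurd h htM⟩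
      refine ⟨⟨g * t, hgt⟩, ?_⟩
      show (g * t) * zel e * (g * t)⁻¹ = g * zel e * g⁻¹
      have h5 : zel e * t = t * zel e := el_comm_t e _
      calc (g * t) * zel e * (g * t)⁻¹ = g * (t * zel e) * t⁻¹ * g⁻¹ := by group
        _ = g * (zel e * t) * t⁻¹ * g⁻¹ := by rw [h5]
        _ = g * zel e * g⁻¹ := by group
  have h1 : ∃ g : M, g * (⟨zel e, hzM⟩ : M) * g⁻¹ =
      ((e₀.symm (sr 0) : ↥(Subgroup.centralizer ({(⟨zel e, hzM⟩ : M)} : Set ↥M))) : M) := by
    have hf := fusion e ht h16 h2 1 hA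
    have h3 : cl e (1 * tau, s02) = el e (mFun (sr 0)) := by rw [el, mFun_sr0, one_mul]
    rw [h3] at hf
    obtain ⟨g, hg⟩ := hconjM _ hf
    exact ⟨g, Subtype.ext (hg.trans (he₀ _).symm)⟩
  have h2' : ∃ g : M, g * (⟨zel e, hzM⟩ : M) * g⁻¹ =
      ((e₀.symm (sr 1) : ↥(Subgroup.centralizer ({(⟨zel e, hzM⟩ : M)} : Set ↥M))) : M) := by
    have hf : Cj (zel e) (el e (mFun (sr 1))) := by
      rw [zel_eq, el, mFun_sr1]
      exact cj_cl e zs_conj_b'
    obtain ⟨g, hg⟩ := hconjM _ hf
    exact ⟨g, Subtype.ext (hg.trans (he₀ _).symm)⟩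
  have hconj := Cfsg.Agent.Lib.Helper20.d8_one_class _ hz₀2 e₀ h1 h2'
  exact ⟨Cfsg.Agent.Lib.Helper20.d8_simple _ hz₀2 e₀ hconj,
    Cfsg.Agent.Lib.Helper20.d8_case_iii _ hz₀2 e₀ h1 h2'⟩

end caseII

end Cfsg.Agent.Lib.Helper61.S4Cent
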