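import Mathlib
import Cfsg.Agent.Lib.Helper61.Basic

/-!
# Subgroups of order 60 of `S₆` (helper61)

`fixed_point`: a subgroup of order 60 of `S₆` containing a subgroup of order `≥ 4` dividing 24
that fixes the point `0` fixes a point. Used for S3222 (part C).
-/

set_option autoImplicit false

namespace Cfsg.Agent.Lib.Helper61.S4Cent

universe u

/-- `S₆`. -/
abbrev PF : Type := Equiv.Perm (Fin 6)

theorem pf_card_stab0 :
    Fintype.card {σ : PF // Equiv.Perm.sign σ = 1 ∧ σ 0 = 0} = 60 := by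
  decide +kernel

theorem pf_no5 : ∀ ρ : PF, ρ ^ 5 = 1 → ρ 0 = 0 → ∀ j : Fin 6, j ≠ 0 → ρ j = j → ρ = 1 := by
  decide +kernel

theorem pf_trans : ∀ k : Fin 6, ∃ σ : PF, Equiv.Perm.sign σ = 1 ∧ σ k = 0 := by
  decide +kernel

theorem pf_move : ∀ i : Fin 6, i ≠ 0 → ∃ σ : PF, Equiv.Perm.sign σ = 1 ∧ σ 0 = 0 ∧ σ i ≠ i := by
  decide +kernel

/-- orbit-stabilizer for a subgroup of `S₆` acting on `Fin 6`. -/
theorem orbit_stab (H : Subgroup PF) (i : Fin 6) :
    Nat.card (MulAction.orbit H i) * Nat.card ↥(H ⊓ MulAction.stabilizer PF i) = Nat.card H := by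
  have h1 : (MulAction.stabilizer PF i).subgroupOf H = MulAction.stabilizer H i := by
    ext x
    simp [Subgroup.mem_subgroupOf, MulAction.mem_stabilizer_iff, Subgroup.smul_def]
  have h2 : Nat.card (MulAction.stabilizer H i) = Nat.card ↥(H ⊓ MulAction.stabilizer PF i) := by
    rw [← h1, ← Subgroup.inf_subgroupOf_left, card_subgroupOf_of_le inf_le_left]
  rw [← h2, Nat.card_congr (MulAction.orbitEquivQuotientStabilizer H i)]
  exact (Subgroup.card_eq_card_quotient_mul_card_subgroup _).symm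

/-- a subgroup of order 60 of `S₆` containing a subgroup of order `≥ 4` dividing 24 that fixes
the point `0` fixes a point. -/
theorem fixed_point (W B : Subgroup PF) (hW : Nat.card W = 60) (hBW : B ≤ W)
    (hB0 : ∀ σ ∈ B, σ 0 = 0) (hB4 : 4 ≤ Nat.card B) (hB24 : Nat.card B ∣ 24) :
    ∃ k : Fin 6, ∀ σ ∈ W, σ k = k := by
  classical
  have hos := orbit_stab W 0
  rw [hW] at hos
  have hmemO : ∀ x, x ∈ MulAction.orbit W (0 : Fin 6) ↔ ∃ σ ∈ W, σ 0 = x := by
    intro x
    constructor
    · rintro ⟨w, rfl⟩; exact ⟨w.1, w.2, rfl⟩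
    · rintro ⟨σ, hσ, rfl⟩; exact ⟨⟨σ, hσ⟩, rfl⟩
  have hBs : Nat.card B ∣ Nat.card ↥(W ⊓ MulAction.stabilizer PF (0 : Fin 6)) :=
    Subgroup.card_dvd_of_le
      (le_inf hBW (fun σ hσ => MulAction.mem_stabilizer_iff.mpr (hB0 σ hσ)))
  have h0O : (0 : Fin 6) ∈ MulAction.orbit W (0 : Fin 6) := MulAction.mem_orbit_self _
  have hinv : ∀ σ ∈ W, ∀ x ∈ MulAction.orbit W (0 : Fin 6), σ x ∈ MulAction.orbit W (0 : Fin 6) := by
    intro σ hσ x hx
    obtain ⟨ρ, hρ, rfl⟩ := (hmemO x).mp hx
    exact (hmemO _).mpr ⟨σ * ρ, W.mul_mem hσ hρ, rfl⟩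
  have hinv' : ∀ σ ∈ W, ∀ x, σ x ∈ MulAction.orbit W (0 : Fin 6) →
      x ∈ MulAction.orbit W (0 : Fin 6) := by
    intro σ hσ x hx
    have h3 := hinv σ⁻¹ (W.inv_mem hσ) _ hx
    simpa using h3
  rw [Nat.card_coe_set_eq] at hos
  have hcompl := Set.ncard_add_ncard_compl (MulAction.orbit W (0 : Fin 6))
  rw [Nat.card_eq_fintype_card, Fintype.card_fin] at hcompl
  have hpos : 0 < (MulAction.orbit W (0 : Fin 6)).ncard :=
    (Set.ncard_pos).mpr ⟨0, h0O⟩
  generalize hn : (MulAction.orbit W (0 : Fin 6)).ncard = n at hos hcompl hpos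
  generalize hs : Nat.card ↥(W ⊓ MulAction.stabilizer PF (0 : Fin 6)) = s at hos hBs
  have hcases : n = 1 ∨ n = 2 ∨ n = 3 ∨ n = 4 ∨ n = 5 ∨ n = 6 := by omega
  -- the case of a short orbit: an element of order 5 in the stabilizer
  have short : n = 2 ∨ n = 3 → False := by
    intro hn23
    have h5 : 5 ∣ Nat.card ↥(W ⊓ MulAction.stabilizer PF (0 : Fin 6)) := by
      rw [hs]
      rcases hn23 with h | h
      · rw [h] at hos; exact ⟨6, by omega⟩
      · rw [h] at hos; exact ⟨4, by omega⟩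
    have : Fact (Nat.Prime 5) := ⟨by norm_num⟩
    obtain ⟨x, hx⟩ := exists_prime_orderOf_dvd_card' 5 h5
    have hσW : (x : PF) ∈ W := x.2.1
    have hσ0 : (x : PF) 0 = 0 := MulAction.mem_stabilizer_iff.mp x.2.2
    have hσ5 : orderOf (x : PF) = 5 := by rw [Subgroup.orderOf_coe, hx]
    -- a point `j ≠ 0` of the orbit
    obtain ⟨j, hjO, hj0⟩ : ∃ j ∈ MulAction.orbit W (0 : Fin 6), j ≠ 0 := by
      by_contra hcon
      push Not at hcon
      have h6 : MulAction.orbit W (0 : Fin 6) ⊆ {0} := fun y hy => hcon y hy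
      have h7 := Set.ncard_le_ncard h6
      rw [Set.ncard_singleton, hn] at h7
      omega
    have hne : ∀ y : Fin 6, y ≠ 0 → (x : PF) y ≠ 0 := by
      intro y hy h
      apply hy
      apply (x : PF).injective
      rw [h, hσ0]
    have hj1 := hinv _ hσW j hjO
    have hj2 := hinv _ hσW _ hj1
    have hfix : (x : PF) ((x : PF) j) = j := by
      by_contra hcon
      have d1 : j ≠ (x : PF) j := by
        intro h; apply hcon; rw [← h, ← h]
      have d2 : j ≠ (x : PF) ((x : PF) j) := fun h => hcon h.symm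
      have d3 : (x : PF) j ≠ (x : PF) ((x : PF) j) := by
        intro h; exact d1 ((x : PF).injective h)
      have h8 : ({j, (x : PF) j, (x : PF) ((x : PF) j)} : Set (Fin 6)).ncard = 3 :=
        Set.ncard_eq_three.mpr ⟨_, _, _, d1, d2, d3, rfl⟩
      have h9 : (0 : Fin 6) ∉ ({j, (x : PF) j, (x : PF) ((x : PF) j)} : Set (Fin 6)) := by
        simp only [Set.mem_insert_iff, Set.mem_singleton_iff, not_or]
        exact ⟨fun h => hj0 h.symm, fun h => hne j hj0 h.symm,
          fun h => hne _ (hne j hj0) h.symm⟩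
      have h10 : (insert (0 : Fin 6) ({j, (x : PF) j, (x : PF) ((x : PF) j)} : Set (Fin 6))).ncard
          = 4 := by
        rw [Set.ncard_insert_of_notMem h9, h8]
      have h11 : insert (0 : Fin 6) ({j, (x : PF) j, (x : PF) ((x : PF) j)} : Set (Fin 6)) ⊆
          MulAction.orbit W (0 : Fin 6) := by
        intro y hy
        simp only [Set.mem_insert_iff, Set.mem_singleton_iff] at hy
        rcases hy with rfl | rfl | rfl | rfl
        · exact h0O
        · exact hjO
        · exact hj1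
        · exact hj2
      have h12 := Set.ncard_le_ncard h11
      rw [h10, hn] at h12
      omega
    have h13 : ((x : PF) ^ 2) = 1 := by
      apply pf_no5 _ _ _ j hj0
      · rw [pow_two, Equiv.Perm.mul_apply]; exact hfix
      · have h5' : (x : PF) ^ 5 = 1 := by
          have h6 := pow_orderOf_eq_one (x : PF)
          rwa [hσ5] at h6
        rw [pow_right_comm, h5', one_pow]
      · rw [pow_two, Equiv.Perm.mul_apply, hσ0, hσ0]
    have h14 := orderOf_dvd_of_pow_eq_one h13
    rw [hσ5] at h14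
    omega
  rcases hcases with h | h | h | h | h | h
  · -- the orbit is `{0}`
    refine ⟨0, fun σ hσ => ?_⟩
    rw [h] at hn
    obtain ⟨a, ha⟩ := Set.ncard_eq_one.mp hn
    have h3 : (0 : Fin 6) = a := by
      have := h0O; rw [ha] at this; exact this
    have h4 := hinv σ hσ 0 h0O
    rw [ha, Set.mem_singleton_iff, ← h3] at h4
    exact h4
  · exact absurd (Or.inl h) short
  · exact absurd (Or.inr h) short
  · exfalso
    rw [h] at hos
    have hs15 : s = 15 := by omega
    rw [hs15] at hBs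
    have h3 := Nat.dvd_gcd hBs hB24
    have h4 : Nat.gcd 15 24 = 3 := by decide
    rw [h4] at h3
    have := Nat.le_of_dvd (by norm_num) h3
    omega
  · -- the complement of the orbit is a point
    have hc1 : (MulAction.orbit W (0 : Fin 6))ᶜ.ncard = 1 := by omega
    obtain ⟨k, hk⟩ := Set.ncard_eq_one.mp hc1
    have hkO : k ∉ MulAction.orbit W (0 : Fin 6) := by
      have : k ∈ (MulAction.orbit W (0 : Fin 6))ᶜ := by rw [hk]; rfl
      exact this
    refine ⟨k, fun σ hσ => ?_⟩
    have h3 : σ k ∈ (MulAction.orbit W (0 : Fin 6))ᶜ := fun h4 => hkO (hinv' σ hσ k h4)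
    rw [hk] at h3
    exact h3
  · exfalso
    rw [h] at hos
    have hs10 : s = 10 := by omega
    rw [hs10] at hBs
    have h3 := Nat.dvd_gcd hBs hB24
    have h4 : Nat.gcd 10 24 = 2 := by decide
    rw [h4] at h3
    have := Nat.le_of_dvd (by norm_num) h3
    omega

end Cfsg.Agent.Lib.Helper61.S4Cent
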