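import Mathlib
import Cfsg.Agent.Lib.Helper61.S4CentC
import Cfsg.Agent.Lib.Helper61.S4CentP
import Cfsg.Agent.Lib.Helper61.PGroup

/-!
# Groups with a 2-central involution `t`, `C(t) ≅ Z₂ × S₄`, `C(S') = S` (helper61) — part D

With `M` normal of index 2 avoiding `t` and simple: `M ≅ SL₃(2)` is impossible, and `M ≅ A₆`
gives `G ≅ S₆`.
-/

set_option autoImplicit false

namespace Cfsg.Agent.Lib.Helper61.S4Cent

open DihedralGroup
open scoped commutatorElement

universe u

theorem card_good : Fintype.card {p : ZS // good p} = 24 := by decide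

section caseII

variable {G : Type u} [Group G] [Finite G] {t : G}
  (e : ↥(Subgroup.centralizer ({t} : Set G)) ≃* ZS)
  (ht : orderOf t = 2)
  (M : Subgroup G) (hM2 : M.index = 2) (htM : t ∉ M)

include ht hM2 in
/-- `M ≅ SL₃(2)` is impossible. -/
theorem not_sl32 (hmem : ∀ p : ZS, cl e p ∈ M ↔ good p)
    (hA : Cj t (cl e (1, s02))) (hsimple : IsSimpleGroup M) (hcard : Nat.card M = 168) :
    False := by
  have hG : Nat.card G = 336 := by
    have h3 := M.card_mul_index
    rw [hcard, hM2] at h3; omega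
  have hC := card_centralizer_t e
  have hidx : (Subgroup.centralizer ({t} : Set G)).index = 7 := by
    have h3 := (Subgroup.centralizer ({t} : Set G)).card_mul_index
    rw [hC, hG] at h3; omega
  have htt := cl_tau e ht
  have hcj : ∀ i : Fin 7, Cj t (cl e (tconj i)) := by
    intro i
    rcases tconj_conj i with h | h
    · rw [h, htt]; exact ⟨1, by group⟩
    · exact hA.trans (cj_cl e h)
  choose gs hgs using hcj
  have hkey : ∀ a b : G, a⁻¹ * b ∈ Subgroup.centralizer ({t} : Set G) →
      b * t * b⁻¹ = a * t * a⁻¹ := by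
    intro a b h3
    have h4 := Subgroup.mem_centralizer_singleton_iff.mp h3
    calc b * t * b⁻¹ = a * ((a⁻¹ * b) * t) * b⁻¹ := by group
      _ = a * (t * (a⁻¹ * b)) * b⁻¹ := by rw [h4]
      _ = a * t * a⁻¹ := by group
  have hinj : Function.Injective (fun i : Fin 7 =>
      (QuotientGroup.mk (gs i) : G ⧸ Subgroup.centralizer ({t} : Set G))) := by
    intro i j hij
    have h5 := hkey _ _ (QuotientGroup.eq.mp hij)
    rw [hgs, hgs] at h5
    exact (tconj_inj _ _ (cl_inj e h5)).symm
  have hbij : Function.Bijective (fun i : Fin 7 =>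
      (QuotientGroup.mk (gs i) : G ⧸ Subgroup.centralizer ({t} : Set G))) := by
    rw [Nat.bijective_iff_injective_and_card]
    exact ⟨hinj, by rw [Nat.card_fin, ← Subgroup.index_eq_card, hidx]⟩
  have hall : ∀ g : G, g * t * g⁻¹ ∈ Subgroup.centralizer ({t} : Set G) := by
    intro g
    obtain ⟨i, hi⟩ := hbij.2 (QuotientGroup.mk g)
    have h5 := hkey _ _ (QuotientGroup.eq.mp hi)
    rw [h5, hgs, Subgroup.mem_centralizer_singleton_iff]
    exact cl_comm e _
  have htK : t ∈ (Subgroup.centralizer ({t} : Set G)).normalCore := fun b => hall b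
  obtain ⟨g₀, hg₀⟩ := hA
  have haK : cl e (1, s02) ∈ (Subgroup.centralizer ({t} : Set G)).normalCore := by
    intro b
    have h3 : b * cl e (1, s02) * b⁻¹ = (b * g₀) * t * (b * g₀)⁻¹ := by rw [← hg₀]; group
    rw [h3]; exact hall _
  have htaK : cl e (tau, s02) ∈ (Subgroup.centralizer ({t} : Set G)).normalCore := by
    rw [← zs_ta, cl_mul, htt]; exact Subgroup.mul_mem _ htK haK
  have htaM : cl e (tau, s02) ∈ M := (hmem _).mpr good_ta
  have hKn : (((Subgroup.centralizer ({t} : Set G)).normalCore).subgroupOf M).Normal :=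
    inferInstance
  rcases hKn.eq_bot_or_eq_top with h | h
  · have h3 : (⟨cl e (tau, s02), htaM⟩ : M) ∈
        ((Subgroup.centralizer ({t} : Set G)).normalCore).subgroupOf M :=
      Subgroup.mem_subgroupOf.mpr htaK
    rw [h, Subgroup.mem_bot] at h3
    have h4 : cl e (tau, s02) = 1 := congrArg (fun v : M => (v : G)) h3
    exact zs_ta_ne (cl_inj e (h4.trans (cl_one e).symm))
  · have h3 : M ≤ (Subgroup.centralizer ({t} : Set G)).normalCore :=
      Subgroup.subgroupOf_eq_top.mp h
    have h4 := Subgroup.card_le_of_le (h3.trans (Subgroup.normalCore_le _))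
    rw [hcard, hC] at h4
    omega

include ht hM2 htM in
/-- `M ≅ A₆` gives `G ≅ S₆`. -/
theorem s6_of_a6 [hMn : M.Normal] (hmem : ∀ p : ZS, cl e p ∈ M ↔ good p)
    (hsimple : IsSimpleGroup M) (f : M ≃* alternatingGroup (Fin 6)) :
    Nonempty (G ≃* Equiv.Perm (Fin 6)) := by
  classical
  have hcardM : Nat.card M = 360 := by
    rw [Nat.card_congr f.toEquiv, nat_card_alternatingGroup, Nat.card_fin]; rfl
  have hG : Nat.card G = 720 := by
    have h3 := M.card_mul_index
    rw [hcardM, hM2] at h3; omega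
  have hC := card_centralizer_t e
  have htt := cl_tau e ht
  -- the action of `M` on six points
  let act : M →* PF := (Subgroup.subtype _).comp f.toMonoidHom
  have hact : ∀ m : M, act m = ((f m : alternatingGroup (Fin 6)) : PF) := fun m => rfl
  have hact_inj : Function.Injective act := fun a b h => f.injective (Subtype.ext h)
  have hact_surj : ∀ σ : PF, Equiv.Perm.sign σ = 1 → ∃ m : M, act m = σ := by
    intro σ hσ
    refine ⟨f.symm ⟨σ, Equiv.Perm.mem_alternatingGroup.mpr hσ⟩, ?_⟩
    rw [hact, MulEquiv.apply_symm_apply]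
  have hact_sign : ∀ m : M, Equiv.Perm.sign (act m) = 1 :=
    fun m => Equiv.Perm.mem_alternatingGroup.mp (f m).2
  let stab0M : Subgroup M := (MulAction.stabilizer PF (0 : Fin 6)).comap act
  have hstab : ∀ m : M, m ∈ stab0M ↔ act m 0 = 0 := fun m => by
    show act m ∈ MulAction.stabilizer PF (0 : Fin 6) ↔ _
    rw [MulAction.mem_stabilizer_iff]; rfl
  have hcard_stab : Nat.card stab0M = 60 := by
    rw [← pf_card_stab0, ← Nat.card_eq_fintype_card]
    refine Nat.card_congr (Equiv.ofBijective (fun m : stab0M =>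
      (⟨act m, hact_sign m, (hstab m).mp m.2⟩ :
        {σ : PF // Equiv.Perm.sign σ = 1 ∧ σ 0 = 0})) ⟨?_, ?_⟩)
    · intro a b hab
      have h3 : act (a : M) = act (b : M) :=
        congrArg (fun v : {σ : PF // Equiv.Perm.sign σ = 1 ∧ σ 0 = 0} => (v : PF)) hab
      exact Subtype.ext (hact_inj h3)
    · rintro ⟨σ, hσ1, hσ0⟩
      obtain ⟨m, hm⟩ := hact_surj σ hσ1
      exact ⟨⟨m, (hstab m).mpr (by rw [hm]; exact hσ0)⟩, Subtype.ext hm⟩
  -- conjugation by `t` on `M`
  let τ : M ≃* M := MulAut.conjNormal t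
  have hτ : ∀ m : M, ((τ m : M) : G) = t * m * t⁻¹ := fun m => MulAut.conjNormal_apply t m
  let fixM : Subgroup M := (Subgroup.centralizer ({t} : Set G)).subgroupOf M
  have hfix : ∀ m : M, m ∈ fixM ↔ (m : G) * t = t * (m : G) := fun m => by
    show (m : G) ∈ Subgroup.centralizer ({t} : Set G) ↔ _
    rw [Subgroup.mem_centralizer_singleton_iff]
  have hτfix : ∀ m ∈ fixM, τ m = m := by
    intro m hm
    apply Subtype.ext
    rw [hτ, ← (hfix m).mp hm]; group
  have hcard_fix : Nat.card fixM = 24 := by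
    rw [← card_good, ← Nat.card_eq_fintype_card]
    refine (Nat.card_congr (Equiv.ofBijective (fun p : {p : ZS // good p} =>
      (⟨⟨cl e p.1, (hmem _).mpr p.2⟩, (hfix _).mpr (cl_comm e _)⟩ : fixM)) ⟨?_, ?_⟩)).symm
    · intro a b hab
      have h3 : cl e a.1 = cl e b.1 := congrArg (fun v : fixM => ((v : M) : G)) hab
      exact Subtype.ext (cl_inj e h3)
    · rintro ⟨m, hm⟩
      obtain ⟨p, hp⟩ := exists_cl e ((hfix m).mp hm)
      have hgood : good p := by rw [← hmem, ← hp]; exact m.2
      exact ⟨⟨p, hgood⟩, Subtype.ext (Subtype.ext hp.symm)⟩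
  -- the subgroups `W` and `B` of `S₆`
  have hcardW : Nat.card ((stab0M.map τ.toMonoidHom).map act) = 60 := by
    rw [Subgroup.card_map_of_injective hact_inj,
      Subgroup.card_map_of_injective (f := τ.toMonoidHom) τ.injective, hcard_stab]
  have hBW : fixM.map act ⊓ MulAction.stabilizer PF (0 : Fin 6) ≤
      (stab0M.map τ.toMonoidHom).map act := by
    rintro σ ⟨⟨m, hm, rfl⟩, hσ0⟩
    have hm0 : m ∈ stab0M := hσ0
    exact ⟨τ m, ⟨m, hm0, rfl⟩, by rw [hτfix m hm]⟩
  have hB0 : ∀ σ ∈ fixM.map act ⊓ MulAction.stabilizer PF (0 : Fin 6), σ 0 = 0 :=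
    fun σ hσ => MulAction.mem_stabilizer_iff.mp hσ.2
  have hcardFP : Nat.card (fixM.map act) = 24 := by
    rw [Subgroup.card_map_of_injective hact_inj, hcard_fix]
  have hB24 : Nat.card ↥(fixM.map act ⊓ MulAction.stabilizer PF (0 : Fin 6)) ∣ 24 := by
    rw [← hcardFP]; exact Subgroup.card_dvd_of_le inf_le_left
  have hB4 : 4 ≤ Nat.card ↥(fixM.map act ⊓ MulAction.stabilizer PF (0 : Fin 6)) := by
    have h3 := orbit_stab (fixM.map act) 0
    rw [hcardFP] at h3
    have h4 : Nat.card (MulAction.orbit (fixM.map act) (0 : Fin 6)) ≤ 6 := by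
      have h5 := Finite.card_subtype_le
        (fun x : Fin 6 => x ∈ MulAction.orbit (fixM.map act) (0 : Fin 6))
      rwa [Nat.card_fin] at h5
    by_contra hlt
    push Not at hlt
    have h6 : Nat.card (MulAction.orbit (fixM.map act) (0 : Fin 6)) *
        Nat.card ↥(fixM.map act ⊓ MulAction.stabilizer PF (0 : Fin 6)) ≤ 6 * 3 :=
      Nat.mul_le_mul h4 (by omega)
    omega
  obtain ⟨k, hk⟩ := fixed_point _ _ hcardW hBW hB0 hB4 hB24
  have hk' : ∀ m ∈ stab0M, act (τ m) k = k := fun m hm => hk _ ⟨τ m, ⟨m, hm, rfl⟩, rfl⟩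
  obtain ⟨π, hπ1, hπk⟩ := pf_trans k
  obtain ⟨m₀, hm₀⟩ := hact_surj π hπ1
  -- the point stabilizer `Y0` and its normalizer
  have hcardY0 : Nat.card (stab0M.map M.subtype) = 60 := by
    rw [Subgroup.card_map_of_injective (Subgroup.subtype_injective _), hcard_stab]
  have hY0M : stab0M.map M.subtype ≤ M := by
    rintro _ ⟨m, -, rfl⟩; exact m.2
  have hxM : (m₀ : G) * t ∉ M := by
    rw [Subgroup.mul_mem_iff_of_index_two hM2]
    intro h; exact htM (h.mp m₀.2)
  have hxY : ∀ y ∈ stab0M.map M.subtype,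
      ((m₀ : G) * t) * y * ((m₀ : G) * t)⁻¹ ∈ stab0M.map M.subtype := by
    rintro _ ⟨m, hm, rfl⟩
    refine ⟨m₀ * τ m * m₀⁻¹, ?_, ?_⟩
    · have h3 : π⁻¹ 0 = k := by
        rw [Equiv.Perm.inv_eq_iff_eq]; exact hπk.symm
      show m₀ * τ m * m₀⁻¹ ∈ stab0M
      rw [hstab, map_mul, map_mul, map_inv, hm₀, Equiv.Perm.mul_apply, Equiv.Perm.mul_apply,
        h3, hk' m hm, hπk]
    · show (m₀ : G) * ((τ m : M) : G) * (m₀ : G)⁻¹ = _
      rw [hτ]
      show (m₀ : G) * (t * (m : G) * t⁻¹) * (m₀ : G)⁻¹ = (m₀ : G) * t * (m : G) * ((m₀ : G) * t)⁻¹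
      group
  have hxH : (m₀ : G) * t ∈ Subgroup.normalizer ((stab0M.map M.subtype : Subgroup G) : Set G) := by
    apply mem_normalizer_of_cj_eq
    apply cj_eq_of_le
    intro w hw
    rw [mem_cj] at hw
    have h3 := hxY _ hw
    have e1 : ((m₀ : G) * t) * (((m₀ : G) * t)⁻¹ * w * ((m₀ : G) * t)) * ((m₀ : G) * t)⁻¹ = w := by
      group
    rwa [e1] at h3
  have hHM : Subgroup.normalizer ((stab0M.map M.subtype : Subgroup G) : Set G) ⊓ M ≤
      stab0M.map M.subtype := by
    rintro g ⟨hgN, hgM⟩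
    have key : act ⟨g, hgM⟩ 0 = 0 := by
      by_contra hne
      have hi : (act ⟨g, hgM⟩)⁻¹ 0 ≠ 0 := by
        intro h; apply hne
        have h3 : act ⟨g, hgM⟩ ((act ⟨g, hgM⟩)⁻¹ 0) = 0 := by simp
        rw [h] at h3; exact h3
      obtain ⟨σ, hσ1, hσ0, hσi⟩ := pf_move _ hi
      obtain ⟨m, hm⟩ := hact_surj σ hσ1
      have hmS : m ∈ stab0M := (hstab m).mpr (by rw [hm]; exact hσ0)
      have h3 : g * (m : G) * g⁻¹ ∈ stab0M.map M.subtype :=
        conj_mem_of_mem_normalizer hgN ⟨m, hmS, rfl⟩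
      obtain ⟨m', hm', hm'e⟩ := h3
      have h4 : m' = ⟨g, hgM⟩ * m * ⟨g, hgM⟩⁻¹ := Subtype.ext hm'e
      have h5 := (hstab m').mp hm'
      rw [h4, map_mul, map_mul, map_inv, hm, Equiv.Perm.mul_apply, Equiv.Perm.mul_apply] at h5
      apply hσi
      have h6 : σ ((act ⟨g, hgM⟩)⁻¹ 0) =
          (act ⟨g, hgM⟩)⁻¹ (act ⟨g, hgM⟩ (σ ((act ⟨g, hgM⟩)⁻¹ 0))) := by simp
      rw [h6, h5]
    exact ⟨⟨g, hgM⟩, (hstab _).mpr key, rfl⟩
  have hMH : M ⊓ Subgroup.normalizer ((stab0M.map M.subtype : Subgroup G) : Set G) =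
      stab0M.map M.subtype :=
    le_antisymm (by rw [inf_comm]; exact hHM) (le_inf hY0M Subgroup.le_normalizer)
  have hcardH : Nat.card (Subgroup.normalizer ((stab0M.map M.subtype : Subgroup G) : Set G)) =
      120 := by
    have h3 : M.relIndex (Subgroup.normalizer ((stab0M.map M.subtype : Subgroup G) : Set G)) ∣ 2 := by
      rw [← hM2]; exact Subgroup.relIndex_dvd_index_of_normal M _
    have h4 : M.relIndex (Subgroup.normalizer ((stab0M.map M.subtype : Subgroup G) : Set G)) ≠ 1 := by
      intro h; rw [Subgroup.relIndex_eq_one] at h; exact hxM (h hxH)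
    have h5 : M.relIndex (Subgroup.normalizer ((stab0M.map M.subtype : Subgroup G) : Set G)) = 2 := by
      rcases (Nat.dvd_prime Nat.prime_two).mp h3 with h | h
      · exact absurd h h4
      · exact h
    have h6 := (M.subgroupOf
      (Subgroup.normalizer ((stab0M.map M.subtype : Subgroup G) : Set G))).card_mul_index
    have h7 : Nat.card (M.subgroupOf
        (Subgroup.normalizer ((stab0M.map M.subtype : Subgroup G) : Set G))) = 60 := by
      rw [← Subgroup.inf_subgroupOf_right, card_subgroupOf_of_le inf_le_right, hMH, hcardY0]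
    have h8 : (M.subgroupOf
        (Subgroup.normalizer ((stab0M.map M.subtype : Subgroup G) : Set G))).index = 2 := h5
    rw [h7, h8] at h6
    omega
  have hidxH : (Subgroup.normalizer ((stab0M.map M.subtype : Subgroup G) : Set G)).index = 6 := by
    have h3 := (Subgroup.normalizer ((stab0M.map M.subtype : Subgroup G) : Set G)).card_mul_index
    rw [hcardH, hG] at h3; omega
  generalize Subgroup.normalizer ((stab0M.map M.subtype : Subgroup G) : Set G) = H at *
  -- the core of `H` is trivial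
  have hcore : H.normalCore = ⊥ := by
    have hKn : (H.normalCore.subgroupOf M).Normal := inferInstance
    have hKM : ∀ k ∈ H.normalCore, k ∈ M → k = 1 := by
      intro k hk hkM
      rcases hKn.eq_bot_or_eq_top with h | h
      · have h3 : (⟨k, hkM⟩ : M) ∈ H.normalCore.subgroupOf M := Subgroup.mem_subgroupOf.mpr hk
        rw [h, Subgroup.mem_bot] at h3
        exact congrArg (fun v : M => (v : G)) h3
      · exfalso
        have h3 : M ≤ H.normalCore := Subgroup.subgroupOf_eq_top.mp h
        have h4 : M ≤ M ⊓ H := le_inf le_rfl (h3.trans (Subgroup.normalCore_le _))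
        rw [hMH] at h4
        have h5 := Subgroup.card_le_of_le h4
        rw [hcardM, hcardY0] at h5
        omega
    rw [eq_bot_iff]
    intro k hk
    rw [Subgroup.mem_bot]
    by_contra hk1
    have hkM : k ∉ M := fun h => hk1 (hKM k hk h)
    have hcent : ∀ g : G, g * k = k * g := by
      intro g
      have h3 : g * k * g⁻¹ * k⁻¹ ∈ H.normalCore :=
        Subgroup.mul_mem _ (H.normalCore_normal.conj_mem k hk g) (Subgroup.inv_mem _ hk)
      have h4 : g * k * g⁻¹ * k⁻¹ ∈ M := by
        rw [Subgroup.mul_mem_iff_of_index_two hM2]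
        constructor
        · intro h; exfalso; apply hkM
          have h6 := hMn.conj_mem _ h g⁻¹
          have e1 : g⁻¹ * (g * k * g⁻¹) * g⁻¹⁻¹ = k := by group
          rwa [e1] at h6
        · intro h; exfalso; apply hkM
          have h6 := M.inv_mem h
          rwa [inv_inv] at h6
      have h5 := hKM _ h3 h4
      calc g * k = (g * k * g⁻¹ * k⁻¹) * k * g := by group
        _ = k * g := by rw [h5, one_mul]
    obtain ⟨p, hp⟩ := exists_cl e (hcent t).symm
    have hpc : ∀ q : ZS, p * q = q * p := by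
      intro q
      apply cl_inj e
      rw [cl_mul, cl_mul, ← hp]; exact (hcent _).symm
    rcases zs_central p hpc with h | h
    · apply hk1; rw [hp, h, cl_one]
    · rw [h, htt] at hp
      have h3 : Subgroup.centralizer ({t} : Set G) = ⊤ := by
        rw [eq_top_iff]; intro g _
        rw [Subgroup.mem_centralizer_singleton_iff]
        have h4 := hcent g
        rw [hp] at h4
        exact h4
      rw [h3, Subgroup.card_top, hG] at hC
      omega
  have hinj : Function.Injective (MulAction.toPermHom G (G ⧸ H)) := by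
    rw [← MonoidHom.ker_eq_bot_iff, ← Subgroup.normalCore_eq_ker, hcore]
  have hcardQ : Nat.card (G ⧸ H) = 6 := by
    rw [← Subgroup.index_eq_card]; exact hidxH
  have hcardP : Nat.card (Equiv.Perm (G ⧸ H)) = 720 := by
    rw [Nat.card_perm, hcardQ]; rfl
  have hbij : Function.Bijective (MulAction.toPermHom G (G ⧸ H)) := by
    rw [Nat.bijective_iff_injective_and_card]
    exact ⟨hinj, by rw [hG, hcardP]⟩
  exact ⟨(MulEquiv.ofBijective _ hbij).trans
    (Equiv.permCongrHom (Finite.equivFinOfCardEq hcardQ))⟩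

end caseII

end Cfsg.Agent.Lib.Helper61.S4Cent
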