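import Mathlib
import Cfsg.Agent.Lib.Helper61.S4CentB
import Cfsg.Agent.Lib.Helper61.S4CentD

/-!
# Groups with a 2-central involution `t`, `C(t) ≅ Z₂ × S₄`, `C(S') = S` (helper61) — part E

Assembly: `G = C(t)` (solvable) or `G ≅ S₆`.
-/

set_option autoImplicit false

namespace Cfsg.Agent.Lib.Helper61.S4Cent

open DihedralGroup
open scoped commutatorElement

universe u

/-- the automorphism `(x, σ) ↦ (x · sgn σ, σ)` of `Z₂ × S₄`. -/
def phiFun (p : ZS) : ZS := (p.1 * (if Equiv.Perm.sign p.2 = 1 then 1 else tau), p.2)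

theorem phiFun_mul : ∀ p q : ZS, phiFun (p * q) = phiFun p * phiFun q := by decide +kernel

theorem phiFun_invol : ∀ p : ZS, phiFun (phiFun p) = p := by decide

/-- the automorphism `(x, σ) ↦ (x · sgn σ, σ)` of `Z₂ × S₄`. -/
def phi : ZS ≃* ZS where
  toFun := phiFun
  invFun := phiFun
  left_inv := phiFun_invol
  right_inv := phiFun_invol
  map_mul' := phiFun_mul

theorem phi_a : phiFun (1, s02) = (tau, s02) := by decide

theorem phi_ta : phiFun (tau, s02) = (1, s02) := by decide

theorem tau_sq : tau * tau = 1 := by decide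

theorem not_solvable_s6 : ¬ Group.IsSolvable (Equiv.Perm (Fin 6)) := by
  apply Equiv.Perm.not_isSolvable
  rw [Cardinal.mk_fin]
  exact_mod_cast (by norm_num : (5 : ℕ) ≤ 6)

section main

variable {G : Type u} [Group G] [Finite G] {t : G}
  (e : ↥(Subgroup.centralizer ({t} : Set G)) ≃* ZS)
  (ht : orderOf t = 2)
  (h16 : ∀ S : Sylow 2 G, Nat.card (S : Subgroup G) = 16)
  (h2 : ∀ S : Sylow 2 G, Subgroup.centralizer
    ((⁅(S : Subgroup G), (S : Subgroup G)⁆ : Subgroup G) : Set G) = (S : Subgroup G))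

omit [Finite G] in
theorem cl_phi (p : ZS) : cl (e.trans phi) p = cl e (phiFun p) := rfl

include ht h16 h2 in
/-- the case where `t` is conjugate to `a` but not to `ta`. -/
theorem caseII (hA : Cj t (cl e (1, s02))) (hB : ¬ Cj t (cl e (tau, s02))) :
    Nonempty (G ≃* Equiv.Perm (Fin 6)) := by
  obtain ⟨M, hMn, hM2, htM⟩ := exists_M e ht h16 h2 hB
  have haM : cl e (1, s02) ∉ M := by
    obtain ⟨g, hg⟩ := hA
    intro h
    rw [← hg] at h
    apply htM
    have h3 := hMn.conj_mem _ h g⁻¹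
    have e1 : g⁻¹ * (g * t * g⁻¹) * g⁻¹⁻¹ = t := by group
    rwa [e1] at h3
  have hmem := cl_mem_M e ht M hM2 htM haM
  obtain ⟨hsimple, hiso⟩ := caseII_simple e ht h16 h2 M hM2 htM hmem hA
  haveI := hMn
  rcases hiso with ⟨⟨f⟩⟩ | ⟨⟨f⟩⟩
  · exfalso
    exact not_sl32 e ht M hM2 hmem hA hsimple (by rw [Nat.card_congr f.toEquiv, card_sl32])
  · exact s6_of_a6 e ht M hM2 htM hmem hsimple f

include e ht h16 h2 in
theorem main_aux :
    (Group.IsSolvable G → Subgroup.centralizer ({t} : Set G) = ⊤) ∧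
      (¬ Group.IsSolvable G → Nonempty (G ≃* Equiv.Perm (Fin 6))) := by
  have s6 : Nonempty (G ≃* Equiv.Perm (Fin 6)) →
      (Group.IsSolvable G → Subgroup.centralizer ({t} : Set G) = ⊤) ∧
      (¬ Group.IsSolvable G → Nonempty (G ≃* Equiv.Perm (Fin 6))) := by
    rintro ⟨ψ⟩
    refine ⟨fun hs => ?_, fun _ => ⟨ψ⟩⟩
    exfalso
    exact not_solvable_s6 (Group.isSolvable_of_surjective (f := ψ.toMonoidHom) ψ.surjective)
  by_cases hA : Cj t (cl e (1, s02))
  · by_cases hB : Cj t (cl e (tau, s02))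
    · exfalso
      have h3 := fusion e ht h16 h2 tau hB
      rw [tau_sq] at h3
      exact not_cj_z_t e h16 h2 (h3.trans hA.symm)
    · exact s6 (caseII e ht h16 h2 hA hB)
  · by_cases hB : Cj t (cl e (tau, s02))
    · apply s6
      apply caseII (e.trans phi) ht h16 h2
      · rw [cl_phi, phi_a]; exact hB
      · rw [cl_phi, phi_ta]; exact hA
    · have htop := caseI e ht h16 h2 hA hB
      exact ⟨fun _ => htop, fun hns => absurd (solvable_of_top e htop) hns⟩

include e ht h2 in
/-- S3222. -/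
theorem main (T : Sylow 2 G) (htc : ∀ s ∈ (T : Subgroup G), s * t = t * s) :
    (Group.IsSolvable G → Subgroup.centralizer ({t} : Set G) = ⊤) ∧
      (¬ Group.IsSolvable G → Nonempty (G ≃* Equiv.Perm (Fin 6))) := by
  have hT16 : Nat.card (T : Subgroup G) = 16 := by
    have hle : (T : Subgroup G) ≤ Subgroup.centralizer ({t} : Set G) := fun s hs =>
      Subgroup.mem_centralizer_singleton_iff.mpr (htc s hs)
    have h3 := Subgroup.card_dvd_of_le hle
    rw [card_centralizer_t e] at h3
    have h4 := card_le_sylow T (Tsub e) (isPGroup_Tsub e)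
    rw [card_Tsub] at h4
    obtain ⟨k, hk⟩ := IsPGroup.iff_card.mp T.isPGroup'
    rw [hk] at h3 h4 ⊢
    have h5 : 2 ^ k ≤ 48 := Nat.le_of_dvd (by norm_num) h3
    have hk6 : k < 6 := by
      by_contra h
      push Not at h
      have h6 := Nat.pow_le_pow_right (by norm_num : 1 ≤ 2) h
      omega
    interval_cases k <;> first | rfl | omega | (exfalso; revert h3; decide)
  have h16 : ∀ S : Sylow 2 G, Nat.card (S : Subgroup G) = 16 := fun S => by
    rw [sylow_card_eq S T, hT16]
  exact main_aux e ht h16 h2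

end main

end Cfsg.Agent.Lib.Helper61.S4Cent
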