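import Mathlib
import Cfsg.Agent.Lib.Helper72.SCDefs
import Cfsg.Agent.Lib.Helper72.Frattini
import Cfsg.Agent.Lib.Helper40.HallHigman
import Cfsg.Agent.Lib.Helper41.Cores

/-! S4394 (project SC of helper72), piece BAS: `Z(Q) ≤ O_p(G)`, `Φ(O_p(G)) ≤ Z(Q)`, and they
are different when `Q ≠ O_p(G)`. -/

set_option autoImplicit false

namespace Cfsg.Agent.Lib.Helper61.SC

open Cfsg.Agent.Lib.Helper72.SC
open scoped commutatorElement

universe u

theorem bas (h1 : KerStmt.{u}) : BasStmt.{u} := by
  intro G _ _ p _ Q hG hO hSE hne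
  have hp : p.Prime := Fact.out
  obtain ⟨hZQ, hZc, hcomm, hpow, -⟩ := hSE
  have hRQ : Cfsg.pCore p G ≤ (Q : Subgroup G) := Cfsg.Agent.Lib.Helper41.pCore_le_sylow Q
  -- (a) the centre of `Q` centralises `O_p(G)`
  have ha : zc (Q : Subgroup G) ≤ Cfsg.pCore p G := by
    refine le_trans ?_ (Cfsg.Agent.Lib.Helper40.centralizer_pCore_le hG hO)
    intro z hz
    rw [Subgroup.mem_centralizer_iff]
    intro r hr
    exact hZc z hz r (hRQ hr)
  -- (b) the Frattini subgroup of `O_p(G)` lies in the centre of `Q`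
  have hb' : frattini ↥(Cfsg.pCore p G) ≤
      (zc (Q : Subgroup G)).comap (Cfsg.pCore p G).subtype := by
    have : ((zc (Q : Subgroup G)).comap (Cfsg.pCore p G).subtype).Normal := by
      constructor
      intro n hn g
      rw [Subgroup.mem_comap] at hn ⊢
      have hgn : (g : G) * (n : G) = (n : G) * (g : G) := hZc _ hn _ (hRQ g.2)
      have : ((g * n * g⁻¹ : ↥(Cfsg.pCore p G)) : G) = (n : G) := by
        push_cast
        rw [hgn, mul_inv_cancel_right]
      rw [Subgroup.coe_subtype] at hn ⊢
      rw [this]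
      exact hn
    apply Cfsg.Agent.Lib.Helper72.frattini_le_of_forall_pow_mem hp
    · intro x
      rw [Subgroup.mem_comap, Subgroup.coe_subtype]
      push_cast
      exact hpow _ (hRQ x.2)
    · intro x y
      rw [Subgroup.mem_comap, Subgroup.coe_subtype]
      push_cast
      have := hcomm _ (hRQ x.2) _ (hRQ y.2)
      rwa [commutatorElement_def] at this
  have hb : fr p G ≤ zc (Q : Subgroup G) := by
    unfold fr
    rw [Subgroup.map_le_iff_le_comap]
    exact hb'
  refine ⟨ha, hb, ?_⟩
  -- (c)
  intro heq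
  apply hne
  apply le_antisymm _ hRQ
  intro g hg
  have hker : g ∈ (rho p G).ker := by
    rw [MonoidHom.mem_ker]
    ext v
    induction v using QuotientGroup.induction_on with
    | H r =>
      rw [MulAut.one_apply]
      change Cfsg.Agent.Lib.Helper60.autQuot (frattini ↥(Cfsg.pCore p G))
        (MulAut.conjNormal g) (r : VV p G) = (r : VV p G)
      rw [Cfsg.Agent.Lib.Helper60.autQuot_mk, eq_comm, QuotientGroup.eq]
      have hmem : ⁅(r : G)⁻¹, g⁆ ∈ fr p G := by
        rw [heq]
        exact hcomm _ ((Q : Subgroup G).inv_mem (hRQ r.2)) _ hg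
      obtain ⟨f, hf, hfe⟩ := hmem
      have : r⁻¹ * (MulAut.conjNormal g) r = f := by
        apply Subtype.ext
        rw [Subgroup.coe_mul, MulAut.conjNormal_apply, Subgroup.coe_inv]
        rw [Subgroup.coe_subtype] at hfe
        rw [hfe, commutatorElement_def]
        group
      rw [this]
      exact hf
  rw [h1 G p hG hO] at hker
  exact hker

end Cfsg.Agent.Lib.Helper61.SC
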